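import Groth.Agent.Ega43.LimDesc

/-!
# Topology of cofiltered limits of schemes with affine transition maps
-/

set_option autoImplicit false
universe u
open CategoryTheory AlgebraicGeometry CategoryTheory.Limits Topology

namespace K115.Basic

open Groth.Agent.Ega43.LimDesc

variable {I : Type u} [SmallCategory I]
  (D : I ⥤ Scheme.{u}) (c : Cone D)

lemma w_apply {i j : I} (φ : i ⟶ j) (x : c.pt) : D.map φ (c.π.app i x) = c.π.app j x := by
  rw [← Scheme.Hom.comp_apply, c.w]

lemma map_comp_apply {i j k : I} (φ : i ⟶ j) (ψ : j ⟶ k) (x : D.obj i) :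
    D.map (φ ≫ ψ) x = D.map ψ (D.map φ x) := by
  rw [D.map_comp, Scheme.Hom.comp_apply]

lemma preimage_map {i j : I} (φ : i ⟶ j) (Z : Set (D.obj j)) :
    (⇑(c.π.app i) ⁻¹' (⇑(D.map φ) ⁻¹' Z) : Set c.pt) = ⇑(c.π.app j) ⁻¹' Z := by
  ext x; simp only [Set.mem_preimage, w_apply]

lemma map_preimage_map {i j k : I} (φ : i ⟶ j) (ψ : j ⟶ k) (Z : Set (D.obj k)) :
    (⇑(D.map φ) ⁻¹' (⇑(D.map ψ) ⁻¹' Z) : Set (D.obj i)) = ⇑(D.map (φ ≫ ψ)) ⁻¹' Z := by
  ext x; simp only [Set.mem_preimage, map_comp_apply]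

lemma opens_preimage_map {i j : I} (φ : i ⟶ j) (V : (D.obj j).Opens) :
    c.π.app i ⁻¹ᵁ (D.map φ ⁻¹ᵁ V) = c.π.app j ⁻¹ᵁ V := by
  rw [← Scheme.Hom.comp_preimage, c.w]

lemma opens_map_preimage_map {i j k : I} (φ : i ⟶ j) (ψ : j ⟶ k) (V : (D.obj k).Opens) :
    D.map φ ⁻¹ᵁ (D.map ψ ⁻¹ᵁ V) = D.map (φ ≫ ψ) ⁻¹ᵁ V := by
  rw [← Scheme.Hom.comp_preimage, D.map_comp]

variable [IsCofiltered I] (hc : IsLimit c) [∀ (i j : I) (f : i ⟶ j), IsAffineHom (D.map f)]

include hc

/-- A point of a stage is in the image of the limit iff it is in the image of every transition map. -/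
theorem mem_range_π_iff (i : I) (x : D.obj i) :
    x ∈ Set.range (c.π.app i) ↔ ∀ (j : I) (φ : j ⟶ i), x ∈ Set.range (D.map φ) := by
  constructor
  · rintro ⟨y, rfl⟩ j φ
    exact ⟨c.π.app j y, w_apply D c φ y⟩
  · intro h
    let g₀ := (D.obj i).fromSpecResidueField x
    have h1 : ∀ φ : Over i, Nonempty ((bc D g₀).obj φ) := by
      intro φ
      obtain ⟨z, hz⟩ := h _ φ.hom
      obtain ⟨w, -⟩ := Scheme.Pullback.exists_preimage_pullback (f := D.map φ.hom) (g := g₀) z
        (IsLocalRing.closedPoint _) (by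
          rw [hz]
          simp only [g₀]
          exact (Scheme.fromSpecResidueField_apply x _).symm)
      exact ⟨w⟩
    have : Nonempty (bcCone D c g₀).pt :=
      Scheme.nonempty_of_isLimit (bc D g₀) (bcCone D c g₀) (bcIsLimit D c g₀ hc)
    obtain ⟨w⟩ := this
    refine ⟨bcPtFst D c g₀ w, ?_⟩
    rw [← Scheme.Hom.comp_apply, (bcCone_isPullback₀ D c g₀).w, Scheme.Hom.comp_apply]
    exact Scheme.fromSpecResidueField_apply x _

theorem surjective_π_iff (i : I) :
    Surjective (c.π.app i) ↔ ∀ (j : I) (φ : j ⟶ i), Surjective (D.map φ) := by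
  constructor
  · intro h j φ
    refine ⟨fun x => ?_⟩
    obtain ⟨y, rfl⟩ := h.surj x
    exact ⟨c.π.app j y, w_apply D c φ y⟩
  · intro h
    exact ⟨fun x => (mem_range_π_iff D c hc i x).mpr fun j φ => (h j φ).surj x⟩

/-- If `D i` is quasi-compact and all transition maps to `D i` have non-empty source, then the limit
is non-empty. -/
theorem nonempty_pt (i : I) [CompactSpace (D.obj i)]
    (h : ∀ (j : I) (_ : j ⟶ i), Nonempty (D.obj j)) : Nonempty c.pt := by
  have h1 : ∀ φ : Over i, Nonempty ((Over.forget i ⋙ D).obj φ) := fun φ => h _ φ.hom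
  have h2 : ∀ φ : Over i, CompactSpace ((Over.forget i ⋙ D).obj φ) := fun φ =>
    QuasiCompact.compactSpace_of_compactSpace (D.map φ.hom)
  have h3 : ∀ {φ ψ : Over i} (f : φ ⟶ ψ), IsAffineHom ((Over.forget i ⋙ D).map f) := by
    intro φ ψ f; dsimp; infer_instance
  exact Scheme.nonempty_of_isLimit (Over.forget i ⋙ D) _
    ((Functor.Initial.isLimitWhiskerEquiv (Over.forget i) c).symm hc)

/-- If the preimage of a quasi-compact open subset of a stage is empty then so is the preimage at some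
stage. -/
theorem exists_map_preimage_eq_bot {i : I} (U : (D.obj i).Opens) (hU : IsCompact (U : Set (D.obj i)))
    (h : c.π.app i ⁻¹ᵁ U = ⊥) : ∃ (j : I) (φ : j ⟶ i), D.map φ ⁻¹ᵁ U = ⊥ := by
  obtain ⟨j, φ, hj⟩ := exists_map_preimage_le_map_preimage D c hc (U := U) (V := ⊥) hU
    (by rw [h]; exact bot_le)
  refine ⟨j, φ, ?_⟩
  rw [← le_bot_iff]
  refine hj.trans ?_
  intro x hx
  exact hx

theorem isDominant_π_iff (i : I) :
    IsDominant (c.π.app i) ↔ ∀ (j : I) (φ : j ⟶ i), IsDominant (D.map φ) := by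
  constructor
  · intro h j φ
    have : IsDominant (c.π.app j ≫ D.map φ) := by rw [c.w]; exact h
    exact IsDominant.of_comp (c.π.app j) (D.map φ)
  · intro h
    refine ⟨?_⟩
    rw [DenseRange, dense_iff_inter_open]
    rintro W hW ⟨x, hx⟩
    obtain ⟨_, ⟨V, hV : IsAffineOpen V, rfl⟩, hxV, hVW⟩ :=
      (D.obj i).isBasis_affineOpens.exists_subset_of_mem_open hx hW
    by_contra hne
    have h1 : c.π.app i ⁻¹ᵁ V = ⊥ := by
      rw [← le_bot_iff]
      intro y hy
      exact (hne ⟨c.π.app i y, hVW hy, y, rfl⟩).elim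
    obtain ⟨j, φ, hj⟩ := exists_map_preimage_eq_bot D c hc V hV.isCompact h1
    obtain ⟨y, hy, z, rfl⟩ := (h j φ).denseRange.inter_open_nonempty V V.2 ⟨x, hxV⟩
    have : z ∈ D.map φ ⁻¹ᵁ V := hy
    rw [hj] at this
    exact this

/-- The preimages of the affine opens of the stages over a given stage form a basis. -/
theorem exists_mem_preimage_le (i₀ : I) {U : Set c.pt} (hU : IsOpen U) {x : c.pt} (hx : x ∈ U) :
    ∃ (i : I) (_ : i ⟶ i₀) (V : (D.obj i).Opens), IsAffineOpen V ∧ c.π.app i x ∈ V ∧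
      ((c.π.app i ⁻¹ᵁ V : c.pt.Opens) : Set c.pt) ⊆ U := by
  obtain ⟨_, ⟨_, ⟨i, V, hV, rfl⟩, rfl⟩, hxV, hVU⟩ :=
    (isBasis_preimage_isAffineOpen D c hc).exists_subset_of_mem_open hx hU
  let k := IsCofiltered.min i i₀
  refine ⟨k, IsCofiltered.minToRight _ _, D.map (IsCofiltered.minToLeft _ _) ⁻¹ᵁ V,
    hV.preimage _, ?_, ?_⟩
  · have h1 : x ∈ c.π.app k ⁻¹ᵁ (D.map (IsCofiltered.minToLeft _ _) ⁻¹ᵁ V) := by
      rw [opens_preimage_map]; exact hxV
    exact h1
  · rw [opens_preimage_map]; exact hVU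

/-- A quasi-compact open subset of the limit comes from some stage over a given stage. -/
theorem exists_preimage_eq_over (i₀ : I) (U : c.pt.Opens) (hU : IsCompact (U : Set c.pt)) :
    ∃ (i : I) (_ : i ⟶ i₀) (V : (D.obj i).Opens), IsCompact (V : Set (D.obj i)) ∧
      c.π.app i ⁻¹ᵁ V = U := by
  obtain ⟨i, V, hV, rfl⟩ := exists_preimage_eq D c hc U hU
  refine ⟨IsCofiltered.min i i₀, IsCofiltered.minToRight _ _,
    D.map (IsCofiltered.minToLeft _ _) ⁻¹ᵁ V, ?_, opens_preimage_map D c _ V⟩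
  exact QuasiCompact.isCompact_preimage (f := D.map _) _ V.2 hV

/-- Two points of the limit which agree at every stage over a given stage are equal. -/
theorem eq_of_forall_π_eq (i₀ : I) {x y : c.pt}
    (h : ∀ (i : I) (_ : i ⟶ i₀), c.π.app i x = c.π.app i y) : x = y := by
  have : Inseparable x y := by
    rw [inseparable_iff_forall_isOpen]
    intro U hU
    constructor
    · intro hx
      obtain ⟨i, φ, V, -, hV, hVU⟩ := exists_mem_preimage_le D c hc i₀ hU hx
      refine hVU ?_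
      show c.π.app i y ∈ V
      rw [← h i φ]; exact hV
    · intro hy
      obtain ⟨i, φ, V, -, hV, hVU⟩ := exists_mem_preimage_le D c hc i₀ hU hy
      refine hVU ?_
      show c.π.app i x ∈ V
      rw [h i φ]; exact hV
  exact this.eq

/-- Specialization in the limit is detected on the stages. -/
theorem specializes_of_forall (i₀ : I) {x y : c.pt}
    (h : ∀ (i : I) (_ : i ⟶ i₀), c.π.app i x ⤳ c.π.app i y) : x ⤳ y := by
  rw [specializes_iff_forall_open]
  intro U hU hy
  obtain ⟨i, φ, V, -, hV, hVU⟩ := exists_mem_preimage_le D c hc i₀ hU hy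
  refine hVU ?_
  exact (specializes_iff_forall_open.mp (h i φ)) V V.2 hV

end K115.Basic
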