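import Groth.Agent.Lim8.K115.Basic
import Groth.Agent.Ega43.LimSurj

/-!
# Constructible sets in cofiltered limits of schemes with affine transition maps
-/

set_option autoImplicit false
universe u
open CategoryTheory AlgebraicGeometry CategoryTheory.Limits Topology

namespace K115.Cons

open K115.Basic Groth.Agent.Ega43.LimSurj

lemma isCompact_of_isConstructible {X : Type*} [TopologicalSpace X] [CompactSpace X] {s : Set X}
    (hs : IsConstructible s) : IsCompact s := by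
  induction s, hs using BooleanSubalgebra.closure_sdiff_sup_induction with
  | isSublattice =>
    exact ⟨fun s hs t ht ↦ ⟨hs.1.union ht.1, hs.2.union ht.2⟩,
      fun s hs t ht ↦ ⟨hs.1.inter ht.1, hs.2.inter_isOpen ht.2 ht.1⟩⟩
  | bot_mem => exact ⟨isOpen_empty, .empty⟩
  | top_mem => exact ⟨isOpen_univ, .univ⟩
  | sdiff U hU V hV => exact hU.2.isCompact.diff hV.1
  | sup s _ t _ hs' ht' => exact hs'.union ht'

variable {I : Type u} [SmallCategory I] [IsCofiltered I]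
  (D : I ⥤ Scheme.{u}) (c : Cone D) (hc : IsLimit c) [∀ (i j : I) (f : i ⟶ j), IsAffineHom (D.map f)]

include hc in
lemma compactSpace_pt (i₀ : I) [CompactSpace (D.obj i₀)] : CompactSpace c.pt := by
  have := isAffineHom_π_app D c hc i₀
  exact QuasiCompact.compactSpace_of_compactSpace (c.π.app i₀)

include hc in
lemma quasiSeparatedSpace_pt (i₀ : I) [QuasiSeparatedSpace (D.obj i₀)] :
    QuasiSeparatedSpace c.pt := by
  have := isAffineHom_π_app D c hc i₀
  exact quasiSeparatedSpace_of_quasiSeparated (c.π.app i₀)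

omit [IsCofiltered I] in
lemma compactSpace_stage {i₀ i : I} (φ : i ⟶ i₀) [CompactSpace (D.obj i₀)] :
    CompactSpace (D.obj i) :=
  QuasiCompact.compactSpace_of_compactSpace (D.map φ)

omit [IsCofiltered I] in
lemma quasiSeparatedSpace_stage {i₀ i : I} (φ : i ⟶ i₀) [QuasiSeparatedSpace (D.obj i₀)] :
    QuasiSeparatedSpace (D.obj i) :=
  quasiSeparatedSpace_of_quasiSeparated (D.map φ)

include hc in
/-- Every constructible subset of the limit comes from a stage. -/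
theorem exists_constructible (i₀ : I) [CompactSpace (D.obj i₀)]
    [QuasiSeparatedSpace (D.obj i₀)] (Z : Set c.pt) (hZ : IsConstructible Z) :
    ∃ (i : I) (_ : i ⟶ i₀) (Zi : Set (D.obj i)),
      IsConstructible Zi ∧ (⇑(c.π.app i) ⁻¹' Zi : Set c.pt) = Z := by
  have := compactSpace_pt D c hc i₀
  induction hZ using IsConstructible.empty_union_induction with
  | open_retrocompact U hUopen hUcomp =>
    obtain ⟨i, φ, V, hV, hVU⟩ := exists_preimage_eq_over D c hc i₀ ⟨U, hUopen⟩ hUcomp.isCompact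
    have := compactSpace_stage D φ
    have := quasiSeparatedSpace_stage D φ
    exact ⟨i, φ, V, hV.isConstructible V.2, congr_arg SetLike.coe hVU⟩
  | union s hs t ht hs' ht' =>
    obtain ⟨i, φ, Zi, hZi, rfl⟩ := hs'
    obtain ⟨j, ψ, Zj, hZj, rfl⟩ := ht'
    obtain ⟨k, a, b, hab⟩ := IsCofiltered.cospan φ ψ
    refine ⟨k, a ≫ φ, ⇑(D.map a) ⁻¹' Zi ∪ ⇑(D.map b) ⁻¹' Zj,
      ((D.map a).isConstructible_preimage hZi).union ((D.map b).isConstructible_preimage hZj), ?_⟩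
    rw [Set.preimage_union, preimage_map, preimage_map]
  | compl s hs hs' =>
    obtain ⟨i, φ, Zi, hZi, rfl⟩ := hs'
    exact ⟨i, φ, Ziᶜ, hZi.compl, Set.preimage_compl⟩

include hc in
/-- Two constructible subsets of a stage with the same preimage in the limit have the same preimage at some
stage. -/
theorem exists_preimage_eq_preimage (i₀ : I) [CompactSpace (D.obj i₀)]
    [QuasiSeparatedSpace (D.obj i₀)] (A B : Set (D.obj i₀)) (hA : IsConstructible A)
    (hB : IsConstructible B) (h : (⇑(c.π.app i₀) ⁻¹' A : Set c.pt) = ⇑(c.π.app i₀) ⁻¹' B) :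
    ∃ (i : I) (φ : i ⟶ i₀), (⇑(D.map φ) ⁻¹' A : Set (D.obj i)) = ⇑(D.map φ) ⁻¹' B := by
  obtain ⟨i, φ, hφ⟩ := exists_preimage_eq_empty_of_isConstructible D c hc i₀ ((A \ B) ∪ (B \ A))
    ((hA.sdiff hB).union (hB.sdiff hA)) (by
      rw [Set.preimage_union, Set.preimage_sdiff, Set.preimage_sdiff, h]; simp)
  refine ⟨i, φ, ?_⟩
  rw [Set.preimage_union, Set.union_empty_iff, Set.preimage_sdiff, Set.preimage_sdiff,
    Set.sdiff_eq_empty, Set.sdiff_eq_empty] at hφ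
  exact hφ.1.antisymm hφ.2

include hc in
theorem exists_preimage_subset_preimage (i₀ : I) [CompactSpace (D.obj i₀)]
    [QuasiSeparatedSpace (D.obj i₀)] (A B : Set (D.obj i₀)) (hA : IsConstructible A)
    (hB : IsConstructible B) (h : (⇑(c.π.app i₀) ⁻¹' A : Set c.pt) ⊆ ⇑(c.π.app i₀) ⁻¹' B) :
    ∃ (i : I) (φ : i ⟶ i₀), (⇑(D.map φ) ⁻¹' A : Set (D.obj i)) ⊆ ⇑(D.map φ) ⁻¹' B := by
  obtain ⟨i, φ, hφ⟩ := exists_preimage_eq_empty_of_isConstructible D c hc i₀ (A \ B)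
    (hA.sdiff hB) (by rw [Set.preimage_sdiff, Set.sdiff_eq_empty]; exact h)
  exact ⟨i, φ, by rwa [Set.preimage_sdiff, Set.sdiff_eq_empty] at hφ⟩

lemma resLE_val {X Y : Scheme.{u}} (f : X ⟶ Y) (U : Y.Opens) (V : X.Opens) (e : V ≤ f ⁻¹ᵁ U) (x : V) :
    ((f.resLE U V e) x).1 = f x.1 := by
  have := congr($(Scheme.Hom.resLE_comp_ι f e) x)
  rw [Scheme.Hom.comp_apply, Scheme.Hom.comp_apply] at this
  exact this

/-- The form of a descent statement for a property of subsets, at a given stage. -/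
def DescSet (P : ∀ (X : Scheme.{u}), Set X → Prop) {I : Type u} [SmallCategory I]
    (D : I ⥤ Scheme.{u}) (c : Cone D) (i₀ : I) : Prop :=
  ∀ (Z : Set (D.obj i₀)), IsConstructible Z → P _ (⇑(c.π.app i₀) ⁻¹' Z : Set c.pt) →
    ∃ (j : I) (φ : j ⟶ i₀), P _ (⇑(D.map φ) ⁻¹' Z : Set (D.obj j))

include hc in
/-- Localization: from quasi-compact quasi-separated stages to quasi-compact stages. -/
theorem descSet_of_compactSpace {P : ∀ (X : Scheme.{u}), Set X → Prop}
    (hpre : ∀ {X Y : Scheme.{u}} (f : X ⟶ Y) (s : Set Y), P _ s → P _ (⇑f ⁻¹' s : Set X))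
    (hloc : ∀ {X : Scheme.{u}} {ι : Type u} (U : ι → X.Opens) (_ : ⨆ i, U i = ⊤) (s : Set X),
      (∀ i, P _ (⇑(U i).ι ⁻¹' s : Set (U i))) → P _ s)
    (H : ∀ {J : Type u} [SmallCategory J] [IsCofiltered J] (E : J ⥤ Scheme.{u}) (e : Cone E)
      (_ : IsLimit e) [∀ (i j : J) (f : i ⟶ j), IsAffineHom (E.map f)] (j₀ : J)
      [CompactSpace (E.obj j₀)] [QuasiSeparatedSpace (E.obj j₀)], DescSet P E e j₀)
    (i₀ : I) [CompactSpace (D.obj i₀)] : DescSet P D c i₀ := by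
  intro Z hZ hP
  obtain ⟨s, hs, hs'⟩ := (isCompact_and_isOpen_iff_finite_and_eq_biUnion_affineOpens
    (X := D.obj i₀) (U := ⊤)).mp ⟨isCompact_univ, isOpen_univ⟩
  have : Finite s := hs
  have hcov : ⨆ U : s, (U.1.1 : (D.obj i₀).Opens) = ⊤ := by
    ext x
    simp only [TopologicalSpace.Opens.coe_iSup, Set.mem_iUnion, TopologicalSpace.Opens.coe_top,
      Set.mem_univ, iff_true]
    have hx : x ∈ (⋃ i ∈ s, (i : Set (D.obj i₀))) := by rw [← hs']; trivial
    obtain ⟨U, hU, hxU⟩ := Set.mem_iUnion₂.mp hx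
    exact ⟨⟨U, hU⟩, hxU⟩
  obtain ⟨i, φ, hφ⟩ := exists_common (i₀ := i₀) (J := s)
    (fun U i φ => P _ (⇑((D.map φ ⁻¹ᵁ U.1.1).ι) ⁻¹' (⇑(D.map φ) ⁻¹' Z) :
      Set (D.map φ ⁻¹ᵁ U.1.1 : (D.obj i).Opens))) (by
      intro U i i' φ ψ hQ
      have e : D.map (ψ ≫ φ) ⁻¹ᵁ U.1.1 ≤ D.map ψ ⁻¹ᵁ (D.map φ ⁻¹ᵁ U.1.1) := by
        rw [opens_map_preimage_map]
      refine (congrArg (P _) ?_).mpr (hpre ((D.map ψ).resLE _ _ e) _ hQ)
      refine Set.ext fun x => ?_
      show D.map (ψ ≫ φ) x.1 ∈ Z ↔ D.map φ ((((D.map ψ).resLE _ _ e) x).1) ∈ Z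
      rw [resLE_val, map_comp_apply])
    (by
      intro U
      have hU : IsAffineOpen U.1.1 := U.1.2
      have : IsAffine ((opensDiagram D i₀ U.1.1).obj (Over.mk (𝟙 i₀))) := hU.preimage (D.map (𝟙 i₀))
      let f : (opensDiagram D i₀ U.1.1).obj (Over.mk (𝟙 i₀)) ⟶ D.obj i₀ :=
        (D.map (𝟙 i₀) ⁻¹ᵁ U.1.1).ι ≫ D.map (𝟙 i₀)
      have h1 : IsConstructible (⇑f ⁻¹' Z) := f.isConstructible_preimage hZ
      have hid : ∀ y, D.map (𝟙 i₀) y = y := fun y => by rw [D.map_id]; rfl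
      obtain ⟨j, φ, hφ⟩ := H (opensDiagram D i₀ U.1.1) (opensCone D c i₀ U.1.1)
        (isLimitOpensCone D c hc i₀ U.1.1) (Over.mk (𝟙 i₀)) (⇑f ⁻¹' Z) h1 (by
          refine (congrArg (P _) ?_).mpr (hpre (c.π.app i₀ ⁻¹ᵁ U.1.1).ι _ hP)
          refine Set.ext fun x => ?_
          have e1 : f ((opensCone D c i₀ U.1.1).π.app (Over.mk (𝟙 i₀)) x) = c.π.app i₀ x.1 := by
            show D.map (𝟙 i₀) _ = _
            rw [hid]
            exact resLE_val _ _ _ _ _
          show f ((opensCone D c i₀ U.1.1).π.app (Over.mk (𝟙 i₀)) x) ∈ Z ↔ c.π.app i₀ x.1 ∈ Z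
          rw [e1])
      refine ⟨j.left, j.hom, ?_⟩
      refine (congrArg (P _) ?_).mpr hφ
      refine Set.ext fun x => ?_
      have e1 : f ((opensDiagram D i₀ U.1.1).map φ x) = D.map j.hom x.1 := by
        show D.map (𝟙 i₀) _ = _
        rw [hid]
        refine (resLE_val _ _ _ _ _).trans ?_
        have e : φ.left = j.hom := by simpa using Over.w φ
        rw [e]
      show D.map j.hom x.1 ∈ Z ↔ f ((opensDiagram D i₀ U.1.1).map φ x) ∈ Z
      rw [e1])
  refine ⟨i, φ, hloc (fun U : ULift.{u} s => D.map φ ⁻¹ᵁ U.down.1.1) ?_ _ fun U => hφ U.down⟩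
  rw [← Scheme.Hom.preimage_iSup]
  have : ⨆ U : ULift.{u} s, (U.down.1.1 : (D.obj i₀).Opens) = ⊤ := by
    rw [← hcov]
    exact Equiv.ulift.iSup_congr fun _ => rfl
  rw [this]; rfl

end K115.Cons
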