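import Groth.Agent.Lim8.K115.Cons

/-!
# Open and locally closed constructible subsets in cofiltered limits
-/

set_option autoImplicit false
universe u
open CategoryTheory AlgebraicGeometry CategoryTheory.Limits Topology

namespace K115.Cons2

open K115.Basic K115.Cons

/-- The predicate "open", as a predicate on subsets of schemes. -/
def POpen (X : Scheme.{u}) (s : Set X) : Prop := IsOpen s

/-- The predicate "locally closed", as a predicate on subsets of schemes. -/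
def PLocClosed (X : Scheme.{u}) (s : Set X) : Prop := IsLocallyClosed s

theorem descSet_open_qcqs {I : Type u} [SmallCategory I] [IsCofiltered I]
    (D : I ⥤ Scheme.{u}) (c : Cone D) (hc : IsLimit c)
    [∀ (i j : I) (f : i ⟶ j), IsAffineHom (D.map f)] (i₀ : I) [CompactSpace (D.obj i₀)]
    [QuasiSeparatedSpace (D.obj i₀)] : DescSet POpen D c i₀ := by
  intro Z hZ hP
  have := compactSpace_pt D c hc i₀
  have hcomp : IsCompact (⇑(c.π.app i₀) ⁻¹' Z : Set c.pt) :=
    isCompact_of_isConstructible ((c.π.app i₀).isConstructible_preimage hZ)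
  obtain ⟨i, φ, V, hV, hVU⟩ := exists_preimage_eq_over D c hc i₀ ⟨_, hP⟩ hcomp
  have := compactSpace_stage D φ
  have := quasiSeparatedSpace_stage D φ
  obtain ⟨j, ψ, hj⟩ := exists_preimage_eq_preimage D c hc i (V : Set (D.obj i))
    (⇑(D.map φ) ⁻¹' Z) (hV.isConstructible V.2) ((D.map φ).isConstructible_preimage hZ)
    (by rw [preimage_map]; exact congr_arg SetLike.coe hVU)
  refine ⟨j, ψ ≫ φ, ?_⟩
  rw [← map_preimage_map, ← hj]
  exact (D.map ψ ⁻¹ᵁ V).2

theorem descSet_open {I : Type u} [SmallCategory I] [IsCofiltered I]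
    (D : I ⥤ Scheme.{u}) (c : Cone D) (hc : IsLimit c)
    [∀ (i j : I) (f : i ⟶ j), IsAffineHom (D.map f)] (i₀ : I) [CompactSpace (D.obj i₀)] :
    DescSet POpen D c i₀ := by
  refine descSet_of_compactSpace D c hc (fun f s hs => hs.preimage f.continuous) ?_
    (fun E e he _ j₀ => descSet_open_qcqs E e he j₀) i₀
  intro X ι U hU s H
  exact (TopologicalSpace.IsOpenCover.isOpen_iff_coe_preimage (U := U) hU).mpr H

theorem descSet_locClosed_qcqs {I : Type u} [SmallCategory I] [IsCofiltered I]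
    (D : I ⥤ Scheme.{u}) (c : Cone D) (hc : IsLimit c)
    [∀ (i j : I) (f : i ⟶ j), IsAffineHom (D.map f)] (i₀ : I) [CompactSpace (D.obj i₀)]
    [QuasiSeparatedSpace (D.obj i₀)] : DescSet PLocClosed D c i₀ := by
  intro Z hZ hP
  have := compactSpace_pt D c hc i₀
  have := quasiSeparatedSpace_pt D c hc i₀
  have hcons := (c.π.app i₀).isConstructible_preimage hZ
  have hcomp : IsCompact (⇑(c.π.app i₀) ⁻¹' Z : Set c.pt) := isCompact_of_isConstructible hcons
  -- a quasi-compact open neighbourhood in which the preimage is closed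
  obtain ⟨W, hWo, hWc, hZW, F, hF, hWF⟩ : ∃ W : Set c.pt, IsOpen W ∧ IsCompact W ∧
      (⇑(c.π.app i₀) ⁻¹' Z : Set c.pt) ⊆ W ∧ ∃ F : Set c.pt, IsClosed F ∧
      (⇑(c.π.app i₀) ⁻¹' Z : Set c.pt) = W ∩ F := by
    obtain ⟨U, F, hU, hF, hUF⟩ := hP
    obtain ⟨W, hWc, hWo, hZW, hWU⟩ := PrespectralSpace.exists_isCompact_and_isOpen_between
      hcomp hU (by rw [hUF]; exact Set.inter_subset_left)
    refine ⟨W, hWo, hWc, hZW, F, hF, ?_⟩
    refine Set.Subset.antisymm (fun x hx => ⟨hZW hx, ?_⟩) (fun x hx => ?_)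
    · rw [hUF] at hx; exact hx.2
    · rw [hUF]; exact ⟨hWU hx.1, hx.2⟩
  obtain ⟨i, φ, V, hV, hVW⟩ := exists_preimage_eq_over D c hc i₀ ⟨W, hWo⟩ hWc
  have := compactSpace_stage D φ
  have := quasiSeparatedSpace_stage D φ
  have hVW' : (⇑(c.π.app i) ⁻¹' (V : Set (D.obj i)) : Set c.pt) = W := congr_arg SetLike.coe hVW
  have hZi := (D.map φ).isConstructible_preimage hZ
  obtain ⟨j, ψ, hj⟩ := exists_preimage_subset_preimage D c hc i (⇑(D.map φ) ⁻¹' Z)
    (V : Set (D.obj i)) hZi (hV.isConstructible V.2) (by rw [preimage_map, hVW']; exact hZW)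
  obtain ⟨k, χ, hk⟩ := descSet_open_qcqs D c hc i ((V : Set (D.obj i)) \ ⇑(D.map φ) ⁻¹' Z)
    ((hV.isConstructible V.2).sdiff hZi) (by
      rw [Set.preimage_sdiff, preimage_map, hVW', hWF, Set.sdiff_self_inter]
      exact hWo.sdiff hF)
  obtain ⟨l, a, b, hab⟩ := IsCofiltered.cospan ψ χ
  refine ⟨l, a ≫ ψ ≫ φ, ?_⟩
  have h1 : (⇑(D.map (a ≫ ψ ≫ φ)) ⁻¹' Z : Set (D.obj l)) =
      ⇑(D.map (a ≫ ψ)) ⁻¹' (V : Set (D.obj i)) ∩
        (⇑(D.map (b ≫ χ)) ⁻¹' ((V : Set (D.obj i)) \ ⇑(D.map φ) ⁻¹' Z))ᶜ := by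
    ext x
    have hx1 : ∀ x, D.map (a ≫ ψ ≫ φ) x = D.map φ (D.map (a ≫ ψ) x) := fun x => by
      rw [← map_comp_apply, Category.assoc]
    have hx2 : x ∈ (⇑(D.map (a ≫ ψ ≫ φ)) ⁻¹' Z : Set (D.obj l)) → D.map (a ≫ ψ) x ∈ V := by
      intro hx
      have : D.map a x ∈ (⇑(D.map ψ) ⁻¹' (⇑(D.map φ) ⁻¹' Z)) := by
        simp only [Set.mem_preimage] at hx ⊢
        rwa [hx1, map_comp_apply] at hx
      have := hj this
      rwa [map_comp_apply]
    simp only [Set.mem_inter_iff, Set.mem_compl_iff, Set.mem_preimage, Set.mem_sdiff, not_and,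
      not_not, ← hab]
    simp only [Set.mem_preimage] at hx2
    rw [hx1] at hx2 ⊢
    tauto
  rw [h1]
  refine ⟨_, _, (D.map (a ≫ ψ) ⁻¹ᵁ V).2, ?_, rfl⟩
  rw [isClosed_compl_iff, ← map_preimage_map]
  exact IsOpen.preimage (D.map b).continuous hk

theorem descSet_locClosed {I : Type u} [SmallCategory I] [IsCofiltered I]
    (D : I ⥤ Scheme.{u}) (c : Cone D) (hc : IsLimit c)
    [∀ (i j : I) (f : i ⟶ j), IsAffineHom (D.map f)] (i₀ : I) [CompactSpace (D.obj i₀)] :
    DescSet PLocClosed D c i₀ := by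
  refine descSet_of_compactSpace D c hc (fun f s hs => hs.preimage f.continuous) ?_
    (fun E e he _ j₀ => descSet_locClosed_qcqs E e he j₀) i₀
  intro X ι U hU s H
  exact (TopologicalSpace.IsOpenCover.isLocallyClosed_iff_coe_preimage (U := U) hU).mpr H

end K115.Cons2
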