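import Groth.Agent.Lim8.K115.Cons

/-!
# Irreducible and connected components of cofiltered limits of schemes with affine transition maps
-/

set_option autoImplicit false
universe u
open CategoryTheory AlgebraicGeometry CategoryTheory.Limits Topology

namespace K115.Comp

open K115.Basic K115.Cons Groth.Agent.Ega43.LimSurj

variable {I : Type u} [SmallCategory I] [IsCofiltered I]
  (D : I ⥤ Scheme.{u}) (c : Cone D) (hc : IsLimit c) [∀ (i j : I) (f : i ⟶ j), IsAffineHom (D.map f)]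

include hc

/-- If the limit is empty then all sufficiently late stages are. -/
theorem exists_isEmpty (i₀ : I) [CompactSpace (D.obj i₀)] (h : IsEmpty c.pt) :
    ∃ (i : I) (_ : i ⟶ i₀), ∀ (j : I) (_ : j ⟶ i), IsEmpty (D.obj j) := by
  by_contra hne
  push Not at hne
  have : Nonempty c.pt := nonempty_pt D c hc i₀ fun j φ => by
    obtain ⟨k, ψ, hk⟩ := hne j φ
    exact hk.map (D.map ψ)
  exact not_isEmpty_of_nonempty _ h

/-- If the limit is not irreducible then neither are the late stages. -/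
theorem exists_not_irreducibleSpace (i₀ : I)
    [CompactSpace (D.obj i₀)] [QuasiSeparatedSpace (D.obj i₀)] (h : ¬ IrreducibleSpace c.pt) :
    ∃ (i : I) (_ : i ⟶ i₀), ∀ (j : I) (_ : j ⟶ i), ¬ IrreducibleSpace (D.obj j) := by
  rcases isEmpty_or_nonempty c.pt with he | hn
  · obtain ⟨i, φ, hi⟩ := exists_isEmpty D c hc i₀ he
    exact ⟨i, φ, fun j ψ hj => not_isEmpty_of_nonempty _ (hi j ψ)⟩
  · -- two disjoint non-empty quasi-compact open subsets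
    have h1 : ¬ PreirreducibleSpace c.pt := fun h1 => h { toPreirreducibleSpace := h1, toNonempty := hn }
    have h2 : ∃ U V : c.pt.Opens, (U : Set c.pt).Nonempty ∧ (V : Set c.pt).Nonempty ∧
        U ⊓ V = ⊥ := by
      by_contra hne
      push Not at hne
      refine h1 ⟨fun U V hU hV hU' hV' => ?_⟩
      rw [Set.univ_inter] at hU' hV' ⊢
      by_contra h3
      rw [Set.not_nonempty_iff_eq_empty] at h3
      exact hne ⟨U, hU⟩ ⟨V, hV⟩ hU' hV' (TopologicalSpace.Opens.ext h3)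
    obtain ⟨U, V, ⟨x, hx⟩, ⟨y, hy⟩, hUV⟩ := h2
    obtain ⟨i, φ, U', hU', hxU, hUU⟩ := exists_mem_preimage_le D c hc i₀ U.2 hx
    obtain ⟨j, ψ, V', hV', hyV, hVV⟩ := exists_mem_preimage_le D c hc i₀ V.2 hy
    obtain ⟨k, a, b, hab⟩ := IsCofiltered.cospan φ ψ
    have hk : c.π.app k ⁻¹ᵁ ((D.map a ⁻¹ᵁ U') ⊓ (D.map b ⁻¹ᵁ V')) = ⊥ := by
      rw [← le_bot_iff, ← hUV]
      rw [Scheme.Hom.preimage_inf, opens_preimage_map, opens_preimage_map]
      exact inf_le_inf hUU hVV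
    have := quasiSeparatedSpace_stage D (a ≫ φ)
    have hcomp : IsCompact (((D.map a ⁻¹ᵁ U') ⊓ (D.map b ⁻¹ᵁ V') : (D.obj k).Opens) :
        Set (D.obj k)) :=
      (hU'.preimage (D.map a)).isCompact.inter_of_isOpen (hV'.preimage (D.map b)).isCompact
        (D.map a ⁻¹ᵁ U').2 (D.map b ⁻¹ᵁ V').2
    obtain ⟨l, χ, hl⟩ := exists_map_preimage_eq_bot D c hc _ hcomp hk
    refine ⟨l, χ ≫ a ≫ φ, fun m θ hm => ?_⟩
    have h3 := hm.toPreirreducibleSpace.isPreirreducible_univ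
      (D.map (θ ≫ χ ≫ a) ⁻¹ᵁ U' : (D.obj m).Opens) (D.map (θ ≫ χ ≫ b) ⁻¹ᵁ V' : (D.obj m).Opens)
      (D.map (θ ≫ χ ≫ a) ⁻¹ᵁ U').2 (D.map (θ ≫ χ ≫ b) ⁻¹ᵁ V').2
      (by
        rw [Set.univ_inter]
        refine ⟨c.π.app m x, ?_⟩
        show D.map (θ ≫ χ ≫ a) (c.π.app m x) ∈ U'
        rw [w_apply]; exact hxU)
      (by
        rw [Set.univ_inter]
        refine ⟨c.π.app m y, ?_⟩
        show D.map (θ ≫ χ ≫ b) (c.π.app m y) ∈ V'
        rw [w_apply]; exact hyV)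
    rw [Set.univ_inter] at h3
    obtain ⟨z, hz1, hz2⟩ := h3
    have h4 : D.map θ z ∈ D.map χ ⁻¹ᵁ ((D.map a ⁻¹ᵁ U') ⊓ (D.map b ⁻¹ᵁ V')) := by
      constructor
      · show D.map a (D.map χ (D.map θ z)) ∈ U'
        rw [← map_comp_apply, ← map_comp_apply]; exact hz1
      · show D.map b (D.map χ (D.map θ z)) ∈ V'
        rw [← map_comp_apply, ← map_comp_apply]; exact hz2
    rw [hl] at h4
    exact h4

/-- The preimage of two opens of a stage which cover the limit cover a late stage. -/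
theorem exists_map_preimage_eq_top {i : I} [CompactSpace (D.obj i)] (U : (D.obj i).Opens)
    (h : c.π.app i ⁻¹ᵁ U = ⊤) : ∃ (j : I) (φ : j ⟶ i), D.map φ ⁻¹ᵁ U = ⊤ := by
  obtain ⟨j, φ, hj⟩ := exists_map_preimage_le_map_preimage D c hc (U := ⊤) (V := U) isCompact_univ
    (by rw [h]; exact le_top)
  exact ⟨j, φ, top_le_iff.mp hj⟩

theorem exists_not_preconnectedSpace_aux (i₀ : I)
    [CompactSpace (D.obj i₀)] (h : ¬ PreconnectedSpace c.pt)
    (H : ∀ (i : I) (_ : i ⟶ i₀) (U : (D.obj i).Opens), IsCompact (U : Set (D.obj i)) → ∀ (V : (D.obj i).Opens),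
      IsCompact (V : Set (D.obj i)) → c.π.app i ⁻¹ᵁ (U ⊓ V) = ⊥ →
      ∃ (j : I) (φ : j ⟶ i), D.map φ ⁻¹ᵁ (U ⊓ V) = ⊥) :
    ∃ (i : I) (_ : i ⟶ i₀), ∀ (j : I) (_ : j ⟶ i), ¬ PreconnectedSpace (D.obj j) := by
  have := compactSpace_pt D c hc i₀
  have h2 : ∃ U V : c.pt.Opens, (U : Set c.pt).Nonempty ∧ (V : Set c.pt).Nonempty ∧
      U ⊓ V = ⊥ ∧ U ⊔ V = ⊤ := by
    by_contra hne
    push Not at hne
    refine h ?_
    rw [preconnectedSpace_iff_clopen]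
    intro s hs
    by_contra h3
    push Not at h3
    refine hne ⟨s, hs.2⟩ ⟨sᶜ, hs.compl.2⟩ ?_ ?_ ?_ ?_
    · exact h3.1
    · exact Set.nonempty_compl.mpr h3.2
    · exact TopologicalSpace.Opens.ext (Set.inter_compl_self s)
    · exact TopologicalSpace.Opens.ext (Set.union_compl_self s)
  obtain ⟨U, V, ⟨x, hx⟩, ⟨y, hy⟩, hUV, hUV'⟩ := h2
  have hUc : IsClosed (U : Set c.pt) := by
    have : (U : Set c.pt) = (V : Set c.pt)ᶜ := by
      ext z
      constructor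
      · intro hz hz'
        have : z ∈ U ⊓ V := ⟨hz, hz'⟩
        rw [hUV] at this
        exact this
      · intro hz
        have : z ∈ U ⊔ V := by rw [hUV']; trivial
        exact this.resolve_right hz
    rw [this]
    exact V.2.isClosed_compl
  have hVc : IsClosed (V : Set c.pt) := by
    have : (V : Set c.pt) = (U : Set c.pt)ᶜ := by
      ext z
      constructor
      · intro hz hz'
        have : z ∈ U ⊓ V := ⟨hz', hz⟩
        rw [hUV] at this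
        exact this
      · intro hz
        have : z ∈ U ⊔ V := by rw [hUV']; trivial
        exact this.resolve_left hz
    rw [this]
    exact U.2.isClosed_compl
  obtain ⟨i, φ, U', hU', rfl⟩ := exists_preimage_eq_over D c hc i₀ U hUc.isCompact
  obtain ⟨j, ψ, V', hV', rfl⟩ := exists_preimage_eq_over D c hc i₀ V hVc.isCompact
  obtain ⟨k, a, b, hab⟩ := IsCofiltered.cospan φ ψ
  have := compactSpace_stage D (a ≫ φ)
  obtain ⟨l, χ, hl⟩ := H k (a ≫ φ) (D.map a ⁻¹ᵁ U')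
    (QuasiCompact.isCompact_preimage (f := D.map a) _ U'.2 hU') (D.map b ⁻¹ᵁ V')
    (QuasiCompact.isCompact_preimage (f := D.map b) _ V'.2 hV') (by
      rw [Scheme.Hom.preimage_inf, opens_preimage_map, opens_preimage_map, hUV])
  obtain ⟨l', χ', hl'⟩ := exists_map_preimage_eq_top D c hc ((D.map a ⁻¹ᵁ U') ⊔ (D.map b ⁻¹ᵁ V'))
    (by rw [Scheme.Hom.preimage_sup, opens_preimage_map, opens_preimage_map, hUV'])
  obtain ⟨m, d, d', hd⟩ := IsCofiltered.cospan χ χ'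
  refine ⟨m, d ≫ χ ≫ a ≫ φ, fun n θ hn => ?_⟩
  have e1 : D.map (θ ≫ d ≫ χ) ⁻¹ᵁ ((D.map a ⁻¹ᵁ U') ⊓ (D.map b ⁻¹ᵁ V')) = ⊥ := by
    rw [show θ ≫ d ≫ χ = (θ ≫ d) ≫ χ by simp, ← opens_map_preimage_map, hl]; rfl
  have e2 : D.map (θ ≫ d ≫ χ) ⁻¹ᵁ ((D.map a ⁻¹ᵁ U') ⊔ (D.map b ⁻¹ᵁ V')) = ⊤ := by
    rw [hd, show θ ≫ d' ≫ χ' = (θ ≫ d') ≫ χ' by simp, ← opens_map_preimage_map, hl']; rfl
  have h3 := hn.isPreconnected_univ
    (D.map (θ ≫ d ≫ χ) ⁻¹ᵁ (D.map a ⁻¹ᵁ U') : (D.obj n).Opens)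
    (D.map (θ ≫ d ≫ χ) ⁻¹ᵁ (D.map b ⁻¹ᵁ V') : (D.obj n).Opens)
    (D.map (θ ≫ d ≫ χ) ⁻¹ᵁ (D.map a ⁻¹ᵁ U')).2 (D.map (θ ≫ d ≫ χ) ⁻¹ᵁ (D.map b ⁻¹ᵁ V')).2
    (by
      intro z _
      have : z ∈ D.map (θ ≫ d ≫ χ) ⁻¹ᵁ ((D.map a ⁻¹ᵁ U') ⊔ (D.map b ⁻¹ᵁ V')) := by rw [e2]; trivial
      exact this)
    (by
      rw [Set.univ_inter]
      refine ⟨c.π.app n x, ?_⟩
      show D.map a (D.map (θ ≫ d ≫ χ) (c.π.app n x)) ∈ U'
      rw [w_apply, w_apply]; exact hx)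
    (by
      rw [Set.univ_inter]
      refine ⟨c.π.app n y, ?_⟩
      show D.map b (D.map (θ ≫ d ≫ χ) (c.π.app n y)) ∈ V'
      rw [w_apply, w_apply]; exact hy)
  rw [Set.univ_inter] at h3
  obtain ⟨z, hz1, hz2⟩ := h3
  have : z ∈ D.map (θ ≫ d ≫ χ) ⁻¹ᵁ ((D.map a ⁻¹ᵁ U') ⊓ (D.map b ⁻¹ᵁ V')) := ⟨hz1, hz2⟩
  rw [e1] at this
  exact this

theorem exists_not_preconnectedSpace (i₀ : I)
    [CompactSpace (D.obj i₀)] [QuasiSeparatedSpace (D.obj i₀)] (h : ¬ PreconnectedSpace c.pt) :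
    ∃ (i : I) (_ : i ⟶ i₀), ∀ (j : I) (_ : j ⟶ i), ¬ PreconnectedSpace (D.obj j) := by
  refine exists_not_preconnectedSpace_aux D c hc i₀ h fun i φ U hU V hV hUV => ?_
  have := quasiSeparatedSpace_stage D φ
  exact exists_map_preimage_eq_bot D c hc _ (hU.inter_of_isOpen hV U.2 V.2) hUV

theorem exists_not_preconnectedSpace_of_isDominant (i₀ : I)
    [CompactSpace (D.obj i₀)] (hd : ∀ (i j : I) (φ : i ⟶ j), IsDominant (D.map φ))
    (h : ¬ PreconnectedSpace c.pt) :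
    ∃ (i : I) (_ : i ⟶ i₀), ∀ (j : I) (_ : j ⟶ i), ¬ PreconnectedSpace (D.obj j) := by
  refine exists_not_preconnectedSpace_aux D c hc i₀ h fun i φ U _ V _ hUV => ⟨i, 𝟙 i, ?_⟩
  have := (isDominant_π_iff D c hc i).mpr fun j ψ => hd j i ψ
  rw [← le_bot_iff]
  intro x hx
  obtain ⟨_, hy, z, rfl⟩ := (c.π.app i).denseRange.inter_open_nonempty ((U ⊓ V : (D.obj i).Opens))
    (U ⊓ V).2 ⟨D.map (𝟙 i) x, hx⟩
  have : z ∈ c.π.app i ⁻¹ᵁ (U ⊓ V) := hy
  rw [hUV] at this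
  exact this.elim

end K115.Comp
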