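import Groth.Agent.Lim8.K115.Basic
import Mathlib.RingTheory.Flat.EquationalCriterion
import Mathlib.RingTheory.RingHom.Flat
import Mathlib.AlgebraicGeometry.Morphisms.Flat

/-!
# Flatness and reducedness in cofiltered limits of schemes with affine transition maps
-/

set_option autoImplicit false
universe u v w
open CategoryTheory AlgebraicGeometry CategoryTheory.Limits Topology

namespace K115.Flat

open K115.Basic

/-- Flatness of a ring map can be checked by lifting relations. -/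
lemma flat_of_lift {R S : Type u} [CommRing R] [CommRing S] (φ : R →+* S)
    (H : ∀ (l : ℕ) (f : Fin l → R) (x : Fin l → S), ∑ i, φ (f i) * x i = 0 →
      ∃ (S' : Type u) (_ : CommRing S') (ψ : R →+* S') (b : S' →+* S) (x' : Fin l → S'), ψ.Flat ∧
        (∀ r, φ r = b (ψ r)) ∧ (∀ i, b (x' i) = x i) ∧
        ∑ i, ψ (f i) * x' i = 0) : φ.Flat := by
  algebraize [φ]
  refine Module.Flat.of_forall_isTrivialRelation ?_
  intro l f x hfx
  obtain ⟨S', _, ψ, b, x', hψ, hab, hx, hrel⟩ := H l f x hfx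
  algebraize [ψ]
  obtain ⟨k, α, y, h1, h2⟩ := Module.Flat.isTrivialRelation_of_sum_smul_eq_zero (R := R)
    (M := S') (f := f) (x := x') hrel
  refine ⟨k, α, fun j => b (y j), ?_, h2⟩
  intro i
  rw [← hx, h1, map_sum]
  refine Finset.sum_congr rfl fun j _ => ?_
  change b (ψ (α i j) * y j) = φ (α i j) * b (y j)
  rw [map_mul, hab]

section affine

variable {J : Type u} [SmallCategory J] [IsCofiltered J] (E : J ⥤ Scheme.{u}) (e : Cone E)
  (he : IsLimit e) [∀ j, IsAffine (E.obj j)]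

include he

lemma exists_common_lift (j₀ : J) {ι : Type*} [Finite ι] (x : ι → Γ(e.pt, ⊤)) :
    ∃ (j : J) (_ : j ⟶ j₀) (y : ι → Γ(E.obj j, ⊤)), ∀ i, (e.π.app j).appTop (y i) = x i := by
  classical
  have := Fintype.ofFinite ι
  choose j y hy using fun i => exists_appTop_π_eq_of_isAffine_of_isLimit E e he (x i)
  obtain ⟨s, hs⟩ := IsCofiltered.inf_objs_exists (insert j₀ (Finset.univ.image j))
  let f : ∀ i, s ⟶ j i := fun i =>
    (hs (Finset.mem_insert_of_mem (Finset.mem_image_of_mem j (Finset.mem_univ i)))).some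
  refine ⟨s, (hs (Finset.mem_insert_self _ _)).some, fun i => (E.map (f i)).appTop (y i), fun i => ?_⟩
  rw [← hy i, ← e.w (f i), Scheme.Hom.comp_appTop]
  rfl

theorem flat_appTop_π (j₀ : J) (hf : ∀ (j : J) (φ : j ⟶ j₀), (E.map φ).appTop.hom.Flat) :
    (e.π.app j₀).appTop.hom.Flat := by
  apply flat_of_lift
  intro l f x hfx
  obtain ⟨j, φ, x', hx'⟩ := exists_common_lift E e he j₀ x
  have hw : ∀ (j : J) (φ : j ⟶ j₀) r, (e.π.app j₀).appTop.hom r =
      (e.π.app j).appTop.hom ((E.map φ).appTop.hom r) := by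
    intro j φ r
    rw [← e.w φ, Scheme.Hom.comp_appTop]
    rfl
  obtain ⟨k, ψ, hk⟩ := exists_appTop_map_eq_zero_of_isAffine_of_isLimit E e he j
    (∑ i, (E.map φ).appTop.hom (f i) * x' i) (by
      rw [← hfx, map_sum]
      refine Finset.sum_congr rfl fun i _ => ?_
      rw [map_mul]
      congr 1
      · exact (hw j φ (f i)).symm
      · exact hx' i)
  refine ⟨Γ(E.obj k, ⊤), inferInstance, (E.map (ψ ≫ φ)).appTop.hom, (e.π.app k).appTop.hom,
    fun i => (E.map ψ).appTop.hom (x' i), hf _ _, hw _ _, fun i => ?_, ?_⟩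
  · rw [← hx' i, ← e.w ψ, Scheme.Hom.comp_appTop]
    rfl
  · rw [← hk, map_sum]
    refine Finset.sum_congr rfl fun i _ => ?_
    rw [map_mul]
    congr 1
    rw [E.map_comp, Scheme.Hom.comp_appTop]
    rfl

theorem isReduced_affine (h : ∀ j : J, ∃ (k : J) (_ : k ⟶ j), IsReduced (E.obj k)) :
    IsReduced e.pt := by
  have : IsAffine e.pt := Scheme.isAffine_of_isLimit e he
  have hred : _root_.IsReduced Γ(e.pt, ⊤) := by
    refine ⟨fun x hx => ?_⟩
    obtain ⟨n, hn⟩ := hx
    obtain ⟨j, y, rfl⟩ := exists_appTop_π_eq_of_isAffine_of_isLimit E e he x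
    obtain ⟨k, φ, hk⟩ := exists_appTop_map_eq_zero_of_isAffine_of_isLimit E e he j (y ^ n) (by
      rw [map_pow]; exact hn)
    obtain ⟨l, ψ, hl⟩ := h k
    have h1 : (E.map (ψ ≫ φ)).appTop y = 0 := by
      have : IsNilpotent ((E.map (ψ ≫ φ)).appTop y) := ⟨n, by
        rw [← map_pow, E.map_comp, Scheme.Hom.comp_appTop]
        exact (congrArg (E.map ψ).appTop.hom hk).trans (map_zero _)⟩
      exact this.eq_zero
    rw [← e.w (ψ ≫ φ), Scheme.Hom.comp_appTop]
    exact (congrArg (e.π.app l).appTop.hom h1).trans (map_zero _)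
  exact isReduced_of_isAffine_isReduced _

end affine

variable {I : Type u} [SmallCategory I] [IsCofiltered I]
  (D : I ⥤ Scheme.{u}) (c : Cone D) (hc : IsLimit c) [∀ (i j : I) (f : i ⟶ j), IsAffineHom (D.map f)]

omit [IsCofiltered I] [∀ (i j : I) (f : i ⟶ j), IsAffineHom (D.map f)] in
lemma opensCone_π_comp (i : I) (U : (D.obj i).Opens) (j : Over i) :
    (opensCone D c i U).π.app j ≫ (D.map j.hom ⁻¹ᵁ U).ι = (c.π.app i ⁻¹ᵁ U).ι ≫ c.π.app j.left :=
  Scheme.Hom.resLE_comp_ι _ _

include hc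

theorem flat_π (i : I) (hf : ∀ (j : I) (φ : j ⟶ i), Flat (D.map φ)) : Flat (c.π.app i) := by
  refine IsZariskiLocalAtSource.of_iSup_eq_top (P := @Flat)
    (fun U : (D.obj i).affineOpens => c.π.app i ⁻¹ᵁ U.1) ?_ ?_
  · rw [← Scheme.Hom.preimage_iSup, iSup_affineOpens_eq_top (D.obj i)]
    rfl
  · intro U
    have hU : IsAffineOpen U.1 := U.2
    have (j : Over i) : IsAffine ((opensDiagram D i U.1).obj j) := hU.preimage (D.map _)
    have : IsAffine (opensCone D c i U.1).pt := Scheme.isAffine_of_isLimit _ (isLimitOpensCone D c hc i U.1)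
    have h1 : ((opensCone D c i U.1).π.app (Over.mk (𝟙 i))).appTop.hom.Flat := by
      refine flat_appTop_π (opensDiagram D i U.1) _ (isLimitOpensCone D c hc i U.1) _ ?_
      intro j φ
      have h2 : Flat ((opensDiagram D i U.1).map φ) := by
        have h3 : Flat (D.map φ.left) := by
          have : φ.left = j.hom := by simpa using Over.w φ
          rw [this]; exact hf _ _
        have h4 : Flat ((D.map φ.left).resLE _ _
          (by rw [← Scheme.Hom.comp_preimage, ← D.map_comp, Over.w φ] :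
            D.map j.hom ⁻¹ᵁ U.1 ≤ D.map φ.left ⁻¹ᵁ (D.map (Over.mk (𝟙 i)).hom ⁻¹ᵁ U.1))) :=
          inferInstance
        exact h4
      exact (HasRingHomProperty.iff_of_isAffine (P := @Flat)).mp h2
    have h2 : Flat ((opensCone D c i U.1).π.app (Over.mk (𝟙 i))) :=
      (@HasRingHomProperty.iff_of_isAffine @Flat _ _ _ _ _ this _).mpr h1
    have h3 : (c.π.app i ⁻¹ᵁ U.1).ι ≫ c.π.app i =
        (opensCone D c i U.1).π.app (Over.mk (𝟙 i)) ≫ (D.map (𝟙 i) ⁻¹ᵁ U.1).ι :=
      (opensCone_π_comp D c i U.1 (Over.mk (𝟙 i))).symm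
    rw [h3]
    have h4 : Flat (D.map (𝟙 i) ⁻¹ᵁ U.1).ι :=
      inferInstanceAs (Flat (Scheme.Opens.ι (D.map (𝟙 i) ⁻¹ᵁ U.1)))
    exact MorphismProperty.comp_mem _ _ _ h2 h4

theorem isReduced_pt (h : ∀ j : I, ∃ (k : I) (_ : k ⟶ j), IsReduced (D.obj k)) :
    IsReduced c.pt := by
  obtain ⟨i⟩ := IsCofiltered.nonempty (C := I)
  have H : ∀ U : (D.obj i).affineOpens, IsReduced (c.π.app i ⁻¹ᵁ U.1 : c.pt.Opens) := by
    intro U
    have hU : IsAffineOpen U.1 := U.2
    have (j : Over i) : IsAffine ((opensDiagram D i U.1).obj j) := hU.preimage (D.map _)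
    refine isReduced_affine (opensDiagram D i U.1) (opensCone D c i U.1)
      (isLimitOpensCone D c hc i U.1) ?_
    intro j
    obtain ⟨k, φ, hk⟩ := h j.left
    refine ⟨Over.mk (φ ≫ j.hom), Over.homMk φ, ?_⟩
    have : IsReduced (D.map (φ ≫ j.hom) ⁻¹ᵁ U.1 : (D.obj k).Opens) := inferInstance
    exact this
  have hx : ∀ x : c.pt, ∃ U : (D.obj i).affineOpens, x ∈ c.π.app i ⁻¹ᵁ U.1 := by
    intro x
    have : c.π.app i x ∈ (⨆ U : (D.obj i).affineOpens, (U : (D.obj i).Opens)) := by
      rw [iSup_affineOpens_eq_top (D.obj i)]; trivial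
    simpa [TopologicalSpace.Opens.mem_iSup] using this
  have : ∀ x : c.pt, _root_.IsReduced (c.pt.presheaf.stalk x) := by
    intro x
    obtain ⟨U, hU⟩ := hx x
    have := H U
    let x' : (c.π.app i ⁻¹ᵁ U.1 : c.pt.Opens) := ⟨x, hU⟩
    have e := ((c.π.app i ⁻¹ᵁ U.1).stalkIso x')
    exact isReduced_of_injective e.inv.hom e.commRingCatIsoToRingEquiv.symm.injective
  exact isReduced_of_isReduced_stalk c.pt

omit hc [IsCofiltered I] [∀ (i j : I) (f : i ⟶ j), IsAffineHom (D.map f)] in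
theorem isReduced_of_flat_surjective {X Y : Scheme.{u}} (f : X ⟶ Y) [Flat f] [Surjective f]
    [IsReduced X] : IsReduced Y := by
  have : ∀ y : Y, _root_.IsReduced (Y.presheaf.stalk y) := by
    intro y
    obtain ⟨x, rfl⟩ := f.surjective y
    have hflat := Flat.stalkMap f x
    have hinj : Function.Injective (f.stalkMap x).hom := by
      algebraize [(f.stalkMap x).hom]
      have : Module.Flat (Y.presheaf.stalk (f x)) (X.presheaf.stalk x) := hflat
      have : IsLocalHom (algebraMap (Y.presheaf.stalk (f x)) (X.presheaf.stalk x)) :=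
        inferInstanceAs (IsLocalHom (f.stalkMap x).hom)
      have : Module.FaithfullyFlat (Y.presheaf.stalk (f x)) (X.presheaf.stalk x) :=
        Module.FaithfullyFlat.of_flat_of_isLocalHom
      exact FaithfulSMul.algebraMap_injective _ _
    exact isReduced_of_injective _ hinj
  exact isReduced_of_isReduced_stalk Y

end K115.Flat
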