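import Groth.Agent.Lim8.K115.Comp
import Mathlib.Topology.NoetherianSpace
import Mathlib.Topology.Separation.Connected

/-!
# Bijections between components of the limit and of the late stages
-/

set_option autoImplicit false
universe u
open CategoryTheory AlgebraicGeometry CategoryTheory.Limits Topology

namespace K115.Irr

open K115.Basic K115.Cons K115.Comp Groth.Agent.Ega43.LimSurj

variable {I : Type u} [SmallCategory I] [IsCofiltered I]
  (D : I ⥤ Scheme.{u}) (c : Cone D) (hc : IsLimit c) [∀ (i j : I) (f : i ⟶ j), IsAffineHom (D.map f)]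

include hc

/-- Separation of a point from a closed subset, at a late stage. -/
theorem exists_notMem_closure (i₀ : I) {Z : Set c.pt} (hZ : IsClosed Z) {x : c.pt} (hx : x ∉ Z) :
    ∃ (i : I) (_ : i ⟶ i₀), ∀ (j : I) (_ : j ⟶ i), c.π.app j x ∉ closure (⇑(c.π.app j) '' Z) := by
  obtain ⟨i, φ, V, -, hxV, hVU⟩ := exists_mem_preimage_le D c hc i₀ hZ.isOpen_compl hx
  refine ⟨i, φ, fun j ψ hj => ?_⟩
  rw [mem_closure_iff] at hj
  obtain ⟨_, hy, z, hz, rfl⟩ := hj (D.map ψ ⁻¹ᵁ V) (D.map ψ ⁻¹ᵁ V).2
    (by show D.map ψ (c.π.app j x) ∈ V; rw [w_apply]; exact hxV)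
  have h1 : D.map ψ (c.π.app j z) ∈ V := hy
  rw [w_apply] at h1
  exact hVU h1 hz

theorem bijOn_irreducibleComponents (i₀ : I) [TopologicalSpace.NoetherianSpace c.pt]
    (hd : ∀ (i j : I) (φ : i ⟶ j), IsDominant (D.map φ)) :
    ∃ (i : I) (_ : i ⟶ i₀), ∀ (j : I) (_ : j ⟶ i),
      Set.BijOn (fun Y : Set c.pt => closure (⇑(c.π.app j) '' (Y : Set c.pt) : Set (D.obj j)))
        (irreducibleComponents c.pt) (irreducibleComponents (D.obj j)) := by
  have hfin : Finite (irreducibleComponents c.pt) :=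
    TopologicalSpace.NoetherianSpace.finite_irreducibleComponents
  -- a stage where the images of the components are pairwise incomparable
  obtain ⟨i, φ, hi⟩ := exists_common (i₀ := i₀)
    (J := irreducibleComponents c.pt × irreducibleComponents c.pt)
    (fun p i _ => ∀ (j : I) (_ : j ⟶ i), closure (⇑(c.π.app j) '' p.1.1) ⊆ closure (⇑(c.π.app j) '' p.2.1) →
      p.1 = p.2) (fun p i i' φ ψ h j χ => h j (χ ≫ ψ)) (by
      rintro ⟨Y, Z⟩
      by_cases hYZ : Y = Z
      · exact ⟨i₀, 𝟙 i₀, fun _ _ _ => hYZ⟩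
      · have h1 : ¬ (Y.1 ⊆ Z.1) := fun h => hYZ (Subtype.ext
          (h.antisymm (Y.2.2 Z.2.1 h)))
        obtain ⟨x, hx, hx'⟩ := Set.not_subset.mp h1
        obtain ⟨i, φ, hi⟩ := exists_notMem_closure D c hc i₀
          (isClosed_of_mem_irreducibleComponents Z.1 Z.2) hx'
        exact ⟨i, φ, fun j ψ h => (hi j ψ (h (subset_closure ⟨x, hx, rfl⟩))).elim⟩)
  refine ⟨i, φ, fun j ψ => ?_⟩
  have hdom := (isDominant_π_iff D c hc j).mpr fun k χ => hd k j χ
  have hirr : ∀ Y : irreducibleComponents c.pt, IsIrreducible (closure (⇑(c.π.app j) '' Y.1)) :=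
    fun Y => (Y.2.1.image _ (c.π.app j).continuous.continuousOn).closure
  -- any irreducible subset of the stage is contained in one of the images
  have hcov : ∀ W : Set (D.obj j), IsIrreducible W →
      ∃ Y : irreducibleComponents c.pt, W ⊆ closure (⇑(c.π.app j) '' Y.1) := by
    intro W hW
    have h1 : W ⊆ ⋃₀ (Set.range fun Y : irreducibleComponents c.pt =>
        closure (⇑(c.π.app j) '' Y.1)) := by
      have h2 : (Set.univ : Set (D.obj j)) = ⋃ Y : irreducibleComponents c.pt,
          closure (⇑(c.π.app j) '' Y.1) := by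
        have h3 : ⋃₀ irreducibleComponents c.pt = Set.univ := sUnion_irreducibleComponents
        rw [← closure_iUnion_of_finite, ← Set.image_iUnion, ← Set.sUnion_eq_iUnion]
        refine Eq.trans ?_ (congrArg (fun s => closure (⇑(c.π.app j) '' s)) h3.symm)
        show _ = closure _
        rw [Set.image_univ]
        exact (c.π.app j).denseRange.closure_range.symm
      rw [Set.sUnion_range, ← h2]
      exact Set.subset_univ _
    obtain ⟨_, ⟨Y, rfl⟩, hY⟩ := isIrreducible_iff_sUnion_isClosed.mp hW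
      (Set.finite_range (fun Y : irreducibleComponents c.pt =>
        closure (⇑(c.π.app j) '' Y.1))).toFinset
      (by
        intro z hz
        rw [Set.Finite.mem_toFinset] at hz
        obtain ⟨Y, rfl⟩ := hz
        exact isClosed_closure)
      (by rw [Set.Finite.coe_toFinset]; exact h1) |>.imp fun z hz => by
        rw [Set.Finite.mem_toFinset] at hz
        exact hz
    exact ⟨Y, hY⟩
  refine ⟨?_, ?_, ?_⟩
  · intro Y hY
    refine ⟨hirr ⟨Y, hY⟩, fun W hW hYW => ?_⟩
    obtain ⟨Z, hZ⟩ := hcov W hW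
    have := hi (⟨Y, hY⟩, Z) j ψ (hYW.trans hZ)
    have h2 : (⟨Y, hY⟩ : irreducibleComponents c.pt) = Z := this
    rw [← h2] at hZ
    exact hZ
  · intro Y hY Z hZ h
    have := hi (⟨Y, hY⟩, ⟨Z, hZ⟩) j ψ (le_of_eq h)
    exact congrArg Subtype.val this
  · intro W hW
    obtain ⟨Y, hY⟩ := hcov W hW.1
    exact ⟨Y.1, Y.2, (hY.antisymm (hW.2 (hirr Y) hY)).symm⟩

omit hc D c [SmallCategory I] [IsCofiltered I] [∀ (i j : I) (f : i ⟶ j), IsAffineHom (D.map f)] in
theorem finite_connectedComponents (A : Type*) [TopologicalSpace A] [TopologicalSpace.NoetherianSpace A] :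
    Finite (ConnectedComponents A) := by
  have hf : Finite (irreducibleComponents A) :=
    TopologicalSpace.NoetherianSpace.finite_irreducibleComponents.to_subtype
  have hne : ∀ Z : irreducibleComponents A, (Z : Set A).Nonempty := fun Z => Z.2.1.nonempty
  refine Finite.of_surjective (fun Z : irreducibleComponents A => (ConnectedComponents.mk (hne Z).some)) ?_
  intro c
  obtain ⟨x, rfl⟩ := ConnectedComponents.surjective_coe c
  let Z : irreducibleComponents A := ⟨irreducibleComponent x, irreducibleComponent_mem_irreducibleComponents x⟩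
  refine ⟨Z, ?_⟩
  have h1 : (hne Z).some ∈ irreducibleComponent x := (hne Z).some_mem
  have h2 : irreducibleComponent x ⊆ connectedComponent x :=
    irreducibleComponent_subset_connectedComponent
  exact ConnectedComponents.coe_eq_coe'.mpr (h2 h1)

theorem bijOn_connectedComponents (i₀ : I) [CompactSpace (D.obj i₀)]
    [TopologicalSpace.NoetherianSpace c.pt]
    (hd : ∀ (i j : I) (φ : i ⟶ j), IsDominant (D.map φ)) :
    ∃ (i : I) (_ : i ⟶ i₀), ∀ (j : I) (_ : j ⟶ i),
      Set.BijOn (fun C : Set c.pt => closure (⇑(c.π.app j) '' (C : Set c.pt) : Set (D.obj j)))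
        (Set.range (connectedComponent : c.pt → Set c.pt))
        (Set.range (connectedComponent : D.obj j → Set (D.obj j))) := by
  have := finite_connectedComponents c.pt
  have hdisc : DiscreteTopology (ConnectedComponents c.pt) := inferInstance
  have := compactSpace_pt D c hc i₀
  let J := ConnectedComponents c.pt
  let F : J → Set c.pt := fun C => (ConnectedComponents.mk : c.pt → J) ⁻¹' {C}
  have hFclopen : ∀ C, IsClopen (F C) := fun C =>
    (@isClopen_discrete _ _ hdisc {C}).preimage ConnectedComponents.continuous_coe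
  have hFx : ∀ x, F (ConnectedComponents.mk x) = connectedComponent x := fun x =>
    connectedComponents_preimage_singleton
  have hFne : ∀ C, (F C).Nonempty := fun C => by
    obtain ⟨x, rfl⟩ := ConnectedComponents.surjective_coe C
    exact ⟨x, rfl⟩
  have hFconn : ∀ C, _root_.IsPreconnected (F C) := fun C => by
    obtain ⟨x, rfl⟩ := ConnectedComponents.surjective_coe C
    rw [hFx]
    exact isPreconnected_connectedComponent
  -- a stage where all the components are defined
  obtain ⟨i, φ, hi⟩ := exists_common (i₀ := i₀) (J := J)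
    (fun C i _ => ∃ V : (D.obj i).Opens, ((c.π.app i ⁻¹ᵁ V : c.pt.Opens) : Set c.pt) = F C)
    (by
      rintro C i i' φ ψ ⟨V, hV⟩
      exact ⟨D.map ψ ⁻¹ᵁ V, by rw [opens_preimage_map]; exact hV⟩)
    (by
      intro C
      obtain ⟨i, φ, V, -, hV⟩ := exists_preimage_eq_over D c hc i₀ ⟨F C, (hFclopen C).2⟩
        (hFclopen C).1.isCompact
      exact ⟨i, φ, V, congrArg SetLike.coe hV⟩)
  choose V hV using hi
  have := compactSpace_stage D φ
  obtain ⟨k, ψ, hk⟩ := exists_map_preimage_eq_top D c hc (⨆ C, V C) (by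
    rw [Scheme.Hom.preimage_iSup, eq_top_iff]
    intro x _
    rw [TopologicalSpace.Opens.mem_iSup]
    refine ⟨ConnectedComponents.mk x, ?_⟩
    have : x ∈ ((c.π.app i ⁻¹ᵁ V (ConnectedComponents.mk x) : c.pt.Opens) : Set c.pt) := by
      rw [hV]; rfl
    exact this)
  refine ⟨k, ψ ≫ φ, fun j χ => ?_⟩
  have hdom := (isDominant_π_iff D c hc j).mpr fun k χ => hd k j χ
  -- the open subsets of `D j`
  let W : J → (D.obj j).Opens := fun C => D.map (χ ≫ ψ) ⁻¹ᵁ V C
  have hW : ∀ C, ((c.π.app j ⁻¹ᵁ W C : c.pt.Opens) : Set c.pt) = F C := fun C => by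
    simp only [W]
    rw [opens_preimage_map, hV]
  have hWmem : ∀ C x, c.π.app j x ∈ W C ↔ x ∈ F C := fun C x => by
    rw [← hW]; rfl
  have hWcov : ∀ y, ∃ C, y ∈ W C := by
    intro y
    have h1 : D.map χ y ∈ D.map ψ ⁻¹ᵁ (⨆ C, V C) := by rw [hk]; trivial
    rw [Scheme.Hom.preimage_iSup, TopologicalSpace.Opens.mem_iSup] at h1
    obtain ⟨C, hC⟩ := h1
    refine ⟨C, ?_⟩
    show D.map (χ ≫ ψ) y ∈ V C
    rw [map_comp_apply]
    exact hC
  have hWdisj : ∀ C C' y, y ∈ W C → y ∈ W C' → C = C' := by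
    intro C C' y hy hy'
    obtain ⟨_, ⟨h1, h2⟩, x, rfl⟩ := hdom.denseRange.inter_open_nonempty ((W C ⊓ W C' :
      (D.obj j).Opens)) (W C ⊓ W C').2 ⟨y, hy, hy'⟩
    have h3 := (hWmem C x).mp h1
    have h4 := (hWmem C' x).mp h2
    exact (Set.mem_singleton_iff.mp h3).symm.trans (Set.mem_singleton_iff.mp h4)
  have hWclosed : ∀ C, IsClosed (W C : Set (D.obj j)) := by
    intro C
    have : (W C : Set (D.obj j))ᶜ = ⋃ C' : {C' // C' ≠ C}, (W C'.1 : Set (D.obj j)) := by
      ext y
      simp only [Set.mem_compl_iff, Set.mem_iUnion, SetLike.mem_coe]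
      constructor
      · intro hy
        obtain ⟨C', hC'⟩ := hWcov y
        exact ⟨⟨C', fun h => hy (h ▸ hC')⟩, hC'⟩
      · rintro ⟨C', hC'⟩ hy
        exact C'.2 (hWdisj _ _ y hC' hy)
    rw [← isOpen_compl_iff, this]
    exact isOpen_iUnion fun C' => (W C'.1).2
  have hWeq : ∀ C, closure (⇑(c.π.app j) '' F C) = (W C : Set (D.obj j)) := by
    intro C
    apply Set.Subset.antisymm
    · rw [(hWclosed C).closure_subset_iff]
      rintro _ ⟨x, hx, rfl⟩
      exact (hWmem C x).mpr hx
    · intro y hy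
      rw [mem_closure_iff]
      intro O hO hyO
      obtain ⟨_, ⟨h1, h2⟩, x, rfl⟩ := hdom.denseRange.inter_open_nonempty (O ∩ W C)
        (hO.inter (W C).2) ⟨y, hyO, hy⟩
      exact ⟨_, h1, x, (hWmem C x).mp h2, rfl⟩
  have hWcomp : ∀ C y, y ∈ W C → connectedComponent y = (W C : Set (D.obj j)) := by
    intro C y hy
    apply Set.Subset.antisymm
    · exact IsClopen.connectedComponent_subset ⟨hWclosed C, (W C).2⟩ hy
    · refine _root_.IsPreconnected.subset_connectedComponent ?_ hy
      rw [← hWeq C]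
      exact ((hFconn C).image _ (c.π.app j).continuous.continuousOn).closure
  refine ⟨?_, ?_, ?_⟩
  · rintro _ ⟨x, rfl⟩
    refine ⟨c.π.app j x, ?_⟩
    show _ = closure _
    rw [← hFx x, hWeq]
    exact hWcomp _ _ ((hWmem _ x).mpr rfl)
  · rintro _ ⟨x, rfl⟩ _ ⟨y, rfl⟩ h
    have h : closure (⇑(c.π.app j) '' connectedComponent x) =
      closure (⇑(c.π.app j) '' connectedComponent y) := h
    rw [← hFx x, ← hFx y, hWeq, hWeq] at h
    have h1 : c.π.app j x ∈ W (ConnectedComponents.mk x) := (hWmem _ x).mpr rfl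
    have h2 : c.π.app j x ∈ W (ConnectedComponents.mk y) := by
      have : c.π.app j x ∈ (W (ConnectedComponents.mk x) : Set (D.obj j)) := h1
      rw [h] at this
      exact this
    rw [← hFx x, ← hFx y, hWdisj _ _ _ h1 h2]
  · rintro _ ⟨y, rfl⟩
    obtain ⟨C, hC⟩ := hWcov y
    obtain ⟨x, hx⟩ := ConnectedComponents.surjective_coe C
    refine ⟨_, ⟨x, rfl⟩, ?_⟩
    show closure _ = _
    rw [← hFx x, hWeq, hWcomp C y hC]
    rw [← hx]

theorem irreducibleSpace_iff (i₀ : I) [CompactSpace (D.obj i₀)]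
    [TopologicalSpace.NoetherianSpace c.pt]
    (hd : ∀ (i j : I) (φ : i ⟶ j), IsDominant (D.map φ)) :
    IrreducibleSpace c.pt ↔
      ∃ (i : I) (_ : i ⟶ i₀), ∀ (j : I) (_ : j ⟶ i), IrreducibleSpace (D.obj j) := by
  constructor
  · intro h
    refine ⟨i₀, 𝟙 i₀, fun j φ => ?_⟩
    have := (isDominant_π_iff D c hc j).mpr fun k ψ => hd k j ψ
    have h1 : IsIrreducible (Set.range (c.π.app j)) := by
      rw [← Set.image_univ]
      exact (h.isIrreducible_univ).image _ (c.π.app j).continuous.continuousOn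
    have h2 : IsIrreducible (Set.univ : Set (D.obj j)) := by
      rw [← (c.π.app j).denseRange.closure_range]
      exact h1.closure
    exact { toNonempty := h2.1.to_type, toPreirreducibleSpace := ⟨h2.2⟩ }
  · rintro ⟨i, φ, h⟩
    obtain ⟨j, ψ, hj⟩ := bijOn_irreducibleComponents D c hc i hd
    have hbij := hj j (𝟙 j)
    have hirr := h j ψ
    have h1 : irreducibleComponents (D.obj j) = {Set.univ} :=
      irreducibleComponents_eq_singleton
    rw [h1] at hbij
    obtain ⟨Y, hY, -⟩ := hbij.surjOn (Set.mem_singleton _)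
    have h2 : irreducibleComponents c.pt = {Y} := by
      refine Set.eq_singleton_iff_unique_mem.mpr ⟨hY, fun Z hZ => ?_⟩
      have hZ' := hbij.mapsTo hZ
      have hY' := hbij.mapsTo hY
      exact hbij.injOn hZ hY (hZ'.trans hY'.symm)
    have h3 : ⋃₀ irreducibleComponents c.pt = Set.univ := sUnion_irreducibleComponents
    rw [h2, Set.sUnion_singleton] at h3
    have h4 : IsIrreducible (Set.univ : Set c.pt) := h3 ▸ hY.1
    exact { toNonempty := h4.1.to_type, toPreirreducibleSpace := ⟨h4.2⟩ }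

end K115.Irr
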