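import Groth.Agent.Lim8.K115.Irr
import Groth.Agent.S2152
import Mathlib.CategoryTheory.CofilteredSystem

/-!
# Maximal points of cofiltered limits of schemes, and the case of topological embeddings
-/

set_option autoImplicit false
universe u
open CategoryTheory AlgebraicGeometry CategoryTheory.Limits Topology

namespace K115.MaxPts

open K115.Basic K115.Cons K115.Comp K115.Irr Groth.Agent.Ega43.LimSurj

/-- The maximal points of a space. -/
def Max (X : Type*) [TopologicalSpace X] : Set X := {s | ∀ z : X, z ⤳ s → z = s}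

section Top

variable {X : Type*} [TopologicalSpace X] [QuasiSober X] [T0Space X]

lemma exists_max (x : X) : ∃ z ∈ Max X, z ⤳ x := by
  obtain ⟨z, hz⟩ := QuasiSober.sober (isIrreducible_irreducibleComponent (x := x))
    isClosed_irreducibleComponent
  refine ⟨z, fun w hw => ?_, ?_⟩
  · have h1 : irreducibleComponent x ⊆ closure {w} := by
      rw [← hz.def]; exact hw.closure_subset
    have h2 : closure {w} ⊆ irreducibleComponent x :=
      (irreducibleComponent_mem_irreducibleComponents x).2 isIrreducible_singleton.closure h1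
    have h3 : IsGenericPoint w (irreducibleComponent x) := h2.antisymm h1
    exact h3.eq hz
  · rw [specializes_iff_mem_closure, hz.def]
    exact mem_irreducibleComponent

lemma mem_of_dense (hfin : (Max X).Finite) {V : Set X} (hV : IsOpen V) (hd : Dense V) {z : X}
    (hz : z ∈ Max X) : z ∈ V := by
  let W : Set X := (⋃ w ∈ Max X \ {z}, closure {w})ᶜ
  have hW : IsOpen W := by
    rw [isOpen_compl_iff]
    exact (hfin.subset Set.sdiff_subset).isClosed_biUnion fun _ _ => isClosed_closure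
  have hzW : z ∈ W := by
    intro h
    obtain ⟨w, hw, hzw⟩ := Set.mem_iUnion₂.mp h
    exact hw.2 (hz w (specializes_iff_mem_closure.mpr hzw))
  obtain ⟨y, hyW, hyV⟩ := hd.inter_open_nonempty W hW ⟨z, hzW⟩
  obtain ⟨w, hw, hwy⟩ := exists_max y
  by_cases hwz : w = z
  · rw [← hwz]; exact hwy.mem_open hV hyV
  · exact (hyW (Set.mem_iUnion₂.mpr ⟨w, ⟨hw, hwz⟩, specializes_iff_mem_closure.mp hwy⟩)).elim

lemma dense_of_max_subset {V : Set X} (h : Max X ⊆ V) : Dense V := by
  intro x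
  obtain ⟨z, hz, hzx⟩ := exists_max x
  exact closure_mono (Set.singleton_subset_iff.mpr (h hz)) (specializes_iff_mem_closure.mp hzx)

end Top

variable {I : Type u} [SmallCategory I] [IsCofiltered I]
  (D : I ⥤ Scheme.{u}) (c : Cone D) (hc : IsLimit c) [∀ (i j : I) (f : i ⟶ j), IsAffineHom (D.map f)]

include hc

omit [∀ (i j : I) (f : i ⟶ j), IsAffineHom (D.map f)] in
/-- Inverse systems of finite non-empty sets of points come from points of the limit. -/
theorem exists_point_mem (M : ∀ i, Set (D.obj i)) (hfin : ∀ i, (M i).Finite)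
    (hne : ∀ i, (M i).Nonempty) (hmap : ∀ (i j : I) (φ : i ⟶ j), Set.MapsTo (D.map φ) (M i) (M j)) :
    ∃ s : c.pt, ∀ i, c.π.app i s ∈ M i := by
  let F : I ⥤ Type u :=
    { obj i := M i
      map {i j} φ := ↾ (fun x : M i => (⟨D.map φ x.1, hmap i j φ x.2⟩ : M j))
      map_id i := by
        ext x
        have : D.map (𝟙 i) x.1 = x.1 := by rw [D.map_id]; rfl
        exact this
      map_comp {i j k} φ ψ := by
        ext x
        exact map_comp_apply D φ ψ x.1 }
  have : ∀ i, Finite (F.obj i) := fun i => (hfin i).to_subtype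
  have : ∀ i, Nonempty (F.obj i) := fun i => (hne i).to_subtype
  obtain ⟨x, hx⟩ := nonempty_sections_of_finite_cofiltered_system F
  obtain ⟨s, hs⟩ := Groth.Agent.S2152.exists_point D c hc (fun i => (x i).1)
    (fun {i j} φ => congrArg Subtype.val (hx φ))
  exact ⟨s, fun i => by rw [hs i]; exact (x i).2⟩

theorem max_of_forall (s : c.pt) (i₀ : I) (h : ∀ (i : I) (_ : i ⟶ i₀), c.π.app i s ∈ Max (D.obj i)) :
    s ∈ Max c.pt := by
  intro z hz
  exact eq_of_forall_π_eq D c hc i₀ fun i φ => h i φ _ (hz.map (c.π.app i).continuous)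

theorem forall_of_max
    (hfin : ∀ i : I, (Max (D.obj i)).Finite)
    (hsys : ∀ (i j : I) (g : i ⟶ j), Set.MapsTo (D.map g) (Max (D.obj i)) (Max (D.obj j)))
    (s : c.pt) (hs : s ∈ Max c.pt) (i : I) : c.π.app i s ∈ Max (D.obj i) := by
  obtain ⟨z, hz⟩ := exists_point_mem D c hc (fun i => {z | z ∈ Max (D.obj i) ∧ z ⤳ c.π.app i s})
    (fun i => (hfin i).subset fun z hz => hz.1)
    (fun i => by
      obtain ⟨z, hz, hzs⟩ := exists_max (c.π.app i s)
      exact ⟨z, hz, hzs⟩)
    (fun i j φ z hz => ⟨hsys i j φ hz.1, by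
      have := hz.2.map (D.map φ).continuous
      rwa [w_apply] at this⟩)
  have h1 : z ⤳ s := by
    obtain ⟨i₀⟩ := IsCofiltered.nonempty (C := I)
    exact specializes_of_forall D c hc i₀ fun i _ => (hz i).2
  rw [← hs z h1]
  exact (hz i).1

theorem dense_and_converse
    (hfin : ∀ i : I, (Max (D.obj i)).Finite)
    (hsys : ∀ (i j : I) (g : i ⟶ j), Set.MapsTo (D.map g) (Max (D.obj i)) (Max (D.obj j)))
    (i₀ : I) (V₀ : (D.obj i₀).Opens) :
    (Dense (V₀ : Set ↥(D.obj i₀)) →
        (∀ (i : I) (g : i ⟶ i₀), Dense (((D.map g) ⁻¹ᵁ V₀ : (D.obj i).Opens) : Set ↥(D.obj i))) ∧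
          Dense (((c.π.app i₀) ⁻¹ᵁ V₀ : c.pt.Opens) : Set ↥c.pt)) ∧
      (Dense (((c.π.app i₀) ⁻¹ᵁ V₀ : c.pt.Opens) : Set ↥c.pt) →
        (Max c.pt).Finite →
          ∃ (i : I) (g : i ⟶ i₀), Dense (((D.map g) ⁻¹ᵁ V₀ : (D.obj i).Opens) : Set ↥(D.obj i))) := by
  constructor
  · intro hd
    constructor
    · intro i g
      refine dense_of_max_subset fun z hz => ?_
      exact mem_of_dense (hfin i₀) V₀.2 hd (hsys i i₀ g hz)
    · refine dense_of_max_subset fun z hz => ?_
      exact mem_of_dense (hfin i₀) V₀.2 hd (forall_of_max D c hc hfin hsys z hz i₀)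
  · intro hd hf
    by_contra hne
    push Not at hne
    obtain ⟨s, hs⟩ := exists_point_mem (Over.forget i₀ ⋙ D) (c.whisker (Over.forget i₀))
      ((Functor.Initial.isLimitWhiskerEquiv (Over.forget i₀) c).symm hc)
      (fun i => {z : D.obj i.left | z ∈ Max (D.obj i.left) ∧ z ∉ D.map i.hom ⁻¹ᵁ V₀})
      (fun i => (hfin i.left).subset fun z hz => hz.1)
      (fun i => by
        by_contra h
        rw [Set.not_nonempty_iff_eq_empty, Set.eq_empty_iff_forall_notMem] at h
        refine hne i.left i.hom (dense_of_max_subset fun z hz => ?_)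
        by_contra hzV
        exact h z ⟨hz, hzV⟩)
      (fun i j φ z hz => ⟨hsys _ _ φ.left hz.1, by
        have h2 := hz.2
        intro h
        refine h2 ?_
        have h3 : D.map j.hom (D.map φ.left z) ∈ V₀ := h
        rw [← map_comp_apply, Over.w φ] at h3
        exact h3⟩)
    have h1 : s ∈ Max c.pt := max_of_forall D c hc s i₀ fun i φ => (hs (Over.mk φ)).1
    have h2 : s ∈ (c.π.app i₀ ⁻¹ᵁ V₀ : c.pt.Opens) := mem_of_dense hf (c.π.app i₀ ⁻¹ᵁ V₀).2 hd h1
    refine (hs (Over.mk (𝟙 i₀))).2 ?_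
    show D.map (𝟙 i₀) (c.π.app i₀ s) ∈ V₀
    rw [w_apply]
    exact h2

omit hc c [IsCofiltered I] [∀ (i j : I) (f : i ⟶ j), IsAffineHom (D.map f)] in
/-- If a stage is Noetherian and the transition maps are embeddings, then the late transition maps are
dominant. -/
theorem exists_isDominant (i₀ : I)
    [TopologicalSpace.NoetherianSpace (D.obj i₀)]
    (he : ∀ (i j : I) (φ : i ⟶ j), IsEmbedding ⇑(D.map φ)) :
    ∃ (i : I) (_ : i ⟶ i₀), ∀ (j : I) (φ : j ⟶ i), IsDominant (D.map φ) := by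
  let T : (Σ i : I, (i ⟶ i₀)) → TopologicalSpace.Closeds (D.obj i₀) := fun p =>
    ⟨closure (Set.range (D.map p.2)), isClosed_closure⟩
  have hwf : WellFoundedLT (TopologicalSpace.Closeds (D.obj i₀)) := inferInstance
  obtain ⟨_, ⟨p, rfl⟩, hp⟩ := hwf.wf.has_min (Set.range T) ⟨_, ⟨i₀, 𝟙 i₀⟩, rfl⟩
  refine ⟨p.1, p.2, fun j φ => ⟨?_⟩⟩
  have h1 : T ⟨j, φ ≫ p.2⟩ ≤ T p := by
    refine closure_mono ?_
    rintro _ ⟨x, rfl⟩
    exact ⟨D.map φ x, (map_comp_apply D φ p.2 x).symm⟩
  have h2 : T p ≤ T ⟨j, φ ≫ p.2⟩ := by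
    by_contra h
    exact hp _ ⟨_, rfl⟩ (lt_of_le_not_ge h1 h)
  intro y
  have h3 : D.map p.2 y ∈ closure (Set.range (D.map (φ ≫ p.2))) :=
    h2 (subset_closure ⟨y, rfl⟩)
  rw [(he p.1 i₀ p.2).isInducing.closure_eq_preimage_closure_image]
  refine closure_mono ?_ h3
  rintro _ ⟨x, rfl⟩
  exact ⟨D.map φ x, ⟨x, rfl⟩, (map_comp_apply D φ p.2 x).symm⟩

omit hc c [IsCofiltered I] [∀ (i j : I) (f : i ⟶ j), IsAffineHom (D.map f)] in
theorem isDominant_of_embedding {i : I} (he : ∀ (i j : I) (φ : i ⟶ j), IsEmbedding ⇑(D.map φ))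
    (hi : ∀ (j : I) (φ : j ⟶ i), IsDominant (D.map φ)) (j k : Over i) (χ : j ⟶ k) :
    IsDominant ((Over.forget i ⋙ D).map χ) := by
  refine ⟨?_⟩
  show DenseRange (D.map χ.left)
  intro y
  have h1 : D.map k.hom y ∈ closure (Set.range (D.map j.hom)) := (hi _ j.hom).denseRange _
  rw [(he k.left i k.hom).isInducing.closure_eq_preimage_closure_image]
  refine closure_mono ?_ h1
  rintro _ ⟨x, rfl⟩
  refine ⟨D.map χ.left x, ⟨x, rfl⟩, ?_⟩
  rw [← map_comp_apply, Over.w χ]

theorem bijOn_irreducibleComponents_of_isEmbedding (i₀ : I)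
    [TopologicalSpace.NoetherianSpace (D.obj i₀)] [TopologicalSpace.NoetherianSpace c.pt]
    (he : ∀ (i j : I) (φ : i ⟶ j), IsEmbedding ⇑(D.map φ)) :
    ∃ (i : I) (_ : i ⟶ i₀), ∀ (j : I) (_ : j ⟶ i),
      Set.BijOn (fun Y : Set c.pt => closure (⇑(c.π.app j) '' (Y : Set c.pt) : Set (D.obj j)))
        (irreducibleComponents c.pt) (irreducibleComponents (D.obj j)) := by
  obtain ⟨i, φ, hi⟩ := exists_isDominant D i₀ he
  have haff : ∀ (j k : Over i) (χ : j ⟶ k), IsAffineHom ((Over.forget i ⋙ D).map χ) :=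
    fun j k χ => inferInstanceAs (IsAffineHom (D.map χ.left))
  have hnoeth : TopologicalSpace.NoetherianSpace (c.whisker (Over.forget i)).pt :=
    inferInstanceAs (TopologicalSpace.NoetherianSpace c.pt)
  obtain ⟨j, ψ, hj⟩ := bijOn_irreducibleComponents (Over.forget i ⋙ D)
    (c.whisker (Over.forget i))
    ((Functor.Initial.isLimitWhiskerEquiv (Over.forget i) c).symm hc) (Over.mk (𝟙 i))
    (fun j k χ => isDominant_of_embedding D he (fun l θ => hi l θ) j k χ)
  refine ⟨j.left, j.hom ≫ φ, fun k χ => ?_⟩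
  exact hj (Over.mk (χ ≫ j.hom)) (Over.homMk χ)

theorem bijOn_connectedComponents_of_isEmbedding (i₀ : I)
    [TopologicalSpace.NoetherianSpace (D.obj i₀)] [TopologicalSpace.NoetherianSpace c.pt]
    (he : ∀ (i j : I) (φ : i ⟶ j), IsEmbedding ⇑(D.map φ)) :
    ∃ (i : I) (_ : i ⟶ i₀), ∀ (j : I) (_ : j ⟶ i),
      Set.BijOn (fun C : Set c.pt => closure (⇑(c.π.app j) '' (C : Set c.pt) : Set (D.obj j)))
        (Set.range (connectedComponent : c.pt → Set c.pt))
        (Set.range (connectedComponent : D.obj j → Set (D.obj j))) := by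
  obtain ⟨i, φ, hi⟩ := exists_isDominant D i₀ he
  have := compactSpace_stage D φ
  have : CompactSpace ((Over.forget i ⋙ D).obj (Over.mk (𝟙 i))) := this
  have haff : ∀ (j k : Over i) (χ : j ⟶ k), IsAffineHom ((Over.forget i ⋙ D).map χ) :=
    fun j k χ => inferInstanceAs (IsAffineHom (D.map χ.left))
  have hnoeth : TopologicalSpace.NoetherianSpace (c.whisker (Over.forget i)).pt :=
    inferInstanceAs (TopologicalSpace.NoetherianSpace c.pt)
  obtain ⟨j, ψ, hj⟩ := bijOn_connectedComponents (Over.forget i ⋙ D)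
    (c.whisker (Over.forget i))
    ((Functor.Initial.isLimitWhiskerEquiv (Over.forget i) c).symm hc) (Over.mk (𝟙 i))
    (fun j k χ => isDominant_of_embedding D he (fun l θ => hi l θ) j k χ)
  refine ⟨j.left, j.hom ≫ φ, fun k χ => ?_⟩
  exact hj (Over.mk (χ ≫ j.hom)) (Over.homMk χ)

end K115.MaxPts
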