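import Groth.Agent.Lim8.K115.Basic
import Mathlib.AlgebraicGeometry.Morphisms.UniversallyOpen

/-!
# Open maps and cofiltered limits of schemes with affine transition maps
-/

set_option autoImplicit false
universe u
open CategoryTheory AlgebraicGeometry CategoryTheory.Limits Topology

namespace K115.Open

open K115.Basic Groth.Agent.Ega43.LimDesc

variable {I : Type u} [SmallCategory I]
  (D : I ⥤ Scheme.{u}) (c : Cone D)

lemma image_π_preimage {j i : I} (φ : j ⟶ i) (hs : Surjective (c.π.app j)) (V : Set (D.obj j)) :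
    ⇑(c.π.app i) '' (⇑(c.π.app j) ⁻¹' V) = ⇑(D.map φ) '' V := by
  ext y
  constructor
  · rintro ⟨x, hx, rfl⟩
    exact ⟨c.π.app j x, hx, w_apply D c φ x⟩
  · rintro ⟨z, hz, rfl⟩
    obtain ⟨x, rfl⟩ := hs.surj z
    exact ⟨x, hz, (w_apply D c φ x).symm⟩

variable [IsCofiltered I] (hc : IsLimit c) [∀ (i j : I) (f : i ⟶ j), IsAffineHom (D.map f)]

include hc

theorem isOpenMap_π_iff (i : I) (hs : ∀ (j : I) (_ : j ⟶ i), Surjective (c.π.app j)) :
    IsOpenMap ⇑(c.π.app i) ↔ ∀ (j : I) (φ : j ⟶ i), IsOpenMap ⇑(D.map φ) := by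
  constructor
  · intro h j φ V hV
    rw [← image_π_preimage D c φ (hs j φ)]
    exact h _ (hV.preimage (c.π.app j).continuous)
  · intro h U hU
    rw [isOpen_iff_forall_mem_open]
    rintro _ ⟨x, hx, rfl⟩
    obtain ⟨j, φ, V, -, hxV, hVU⟩ := exists_mem_preimage_le D c hc i hU hx
    refine ⟨⇑(D.map φ) '' V, ?_, h j φ V V.2, ?_⟩
    · rw [← image_π_preimage D c φ (hs j φ)]
      exact Set.image_mono hVU
    · exact ⟨c.π.app j x, hxV, w_apply D c φ x⟩

omit hc [IsCofiltered I] [∀ (i j : I) (f : i ⟶ j), IsAffineHom (D.map f)] in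
theorem universallyOpen_of_comp {X Y Z : Scheme.{u}} (f : X ⟶ Y) (g : Y ⟶ Z) [Surjective f]
    [UniversallyOpen (f ≫ g)] : UniversallyOpen g := by
  refine ⟨?_⟩
  intro X' Y' a b g' H
  have h1 : IsPullback (pullback.fst f a) (pullback.snd f a ≫ g') (f ≫ g) b :=
    ((IsPullback.of_hasPullback f a).flip.paste_horiz H).flip
  have h2 : Surjective (pullback.snd f a) := inferInstance
  have h3 : UniversallyOpen (pullback.snd f a ≫ g') := MorphismProperty.of_isPullback h1 inferInstance
  have h4 := (pullback.snd f a ≫ g').isOpenMap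
  intro V hV
  have h5 : ⇑g' '' V = ⇑(pullback.snd f a ≫ g') '' (⇑(pullback.snd f a) ⁻¹' V) := by
    ext y
    constructor
    · rintro ⟨z, hz, rfl⟩
      obtain ⟨x, rfl⟩ := h2.surj z
      exact ⟨x, hz, by rw [Scheme.Hom.comp_apply]⟩
    · rintro ⟨x, hx, rfl⟩
      exact ⟨_, hx, by rw [Scheme.Hom.comp_apply]⟩
  rw [h5]
  exact h4 _ (hV.preimage (pullback.snd f a).continuous)

theorem universallyOpen_π_iff (i : I) (hs : ∀ (j : I) (φ : j ⟶ i), Surjective (c.π.app j)) :
    UniversallyOpen (c.π.app i) ↔ ∀ (j : I) (φ : j ⟶ i), UniversallyOpen (D.map φ) := by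
  constructor
  · intro h j φ
    have := hs j φ
    have : UniversallyOpen (c.π.app j ≫ D.map φ) := by rw [c.w]; exact h
    exact universallyOpen_of_comp (c.π.app j) (D.map φ)
  · intro h
    refine ⟨?_⟩
    intro X' Y' a b f' H
    let e : X' ≅ (bcCone D c b).pt := IsPullback.isoIsPullback _ _ H.flip (bcCone_isPullback₀ D c b)
    have he : e.hom ≫ bcPtSnd D c b = f' := IsPullback.isoIsPullback_hom_snd _ _ _ _
    have h1 : IsOpenMap ⇑((bcCone D c b).π.app (Over.mk (𝟙 i))) := by
      refine (isOpenMap_π_iff (bc D b) (bcCone D c b) (bcIsLimit D c b hc) (Over.mk (𝟙 i)) ?_).mpr ?_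
      · intro j φ
        have := hs j.left j.hom
        exact MorphismProperty.of_isPullback (P := @Surjective) (bcCone_isPullback D c b j).flip this
      · intro j φ
        have := h j.left j.hom
        have e2 : φ.left = j.hom := by simpa using Over.w φ
        have : UniversallyOpen (D.map φ.left) := by rw [e2]; exact this
        have : UniversallyOpen ((bc D b).map φ) :=
          MorphismProperty.of_isPullback (P := @UniversallyOpen) (bc_isPullback D b φ).flip this
        exact ((bc D b).map φ).isOpenMap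
    have h2 : IsOpenMap ⇑(bcPtSnd D c b) := by
      rw [← bcCone_π_snd D c b (Over.mk (𝟙 i))]
      have h3 : IsIso (bcSnd D b (Over.mk (𝟙 i))) := bcSnd_isIso D b
      exact (bcSnd D b (Over.mk (𝟙 i))).isOpenMap.comp h1
    show IsOpenMap ⇑f'
    rw [← he]
    exact h2.comp e.hom.isOpenMap

end K115.Open
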