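import Groth.Agent.Lim8.K115.Open

/-!
# Descent of openness from the stages of a cofiltered limit
-/

set_option autoImplicit false
universe u
open CategoryTheory AlgebraicGeometry CategoryTheory.Limits Topology

namespace K115.Open2

open K115.Basic Groth.Agent.Ega43.LimDesc

/-- In a cartesian square, images of preimages are preimages of images. -/
theorem image_preimage_of_isPullback {X Y X' Y' : Scheme.{u}} {a : X ⟶ X'} {f : X ⟶ Y} {f' : X' ⟶ Y'}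
    {b : Y ⟶ Y'} (h : IsPullback a f f' b) (V : Set X') :
    ⇑f '' (⇑a ⁻¹' V) = ⇑b ⁻¹' (⇑f' '' V) := by
  ext y
  constructor
  · rintro ⟨x, hx, rfl⟩
    exact ⟨a x, hx, by rw [← Scheme.Hom.comp_apply, h.w, Scheme.Hom.comp_apply]⟩
  · rintro ⟨v, hv, hvy⟩
    obtain ⟨z, hz1, hz2⟩ := Scheme.Pullback.exists_preimage_pullback (f := f') (g := b) v y hvy
    refine ⟨h.isoPullback.inv z, ?_, ?_⟩
    · show a (h.isoPullback.inv z) ∈ V
      rw [← Scheme.Hom.comp_apply, h.isoPullback_inv_fst, hz1]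
      exact hv
    · rw [← Scheme.Hom.comp_apply, h.isoPullback_inv_snd, hz2]

theorem isOpenMap_of_stages {I : Type u} [SmallCategory I] [IsCofiltered I]
    (D : I ⥤ Scheme.{u}) (c : Limits.Cone D) (hc : Limits.IsLimit c)
    [∀ (i j : I) (f : i ⟶ j), IsAffineHom (D.map f)] (i₀ : I)
    {X₀ Y₀ : Scheme.{u}} (f₀ : X₀ ⟶ Y₀) (g₀ : Y₀ ⟶ D.obj i₀)
    {X Y : Scheme.{u}} (f : X ⟶ Y) (g : Y ⟶ c.pt) (qY : Y ⟶ Y₀) (qX : X ⟶ X₀)
    (hY : IsPullback qY g g₀ (c.π.app i₀)) (hX : IsPullback qX f f₀ qY)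
    (h : ∃ (i : I) (φ : i ⟶ i₀), ∀ (j : I) (ψ : j ⟶ i) (Xj Yj : Scheme.{u}) (fj : Xj ⟶ Yj)
      (gj : Yj ⟶ D.obj j) (pY : Yj ⟶ Y₀) (pX : Xj ⟶ X₀),
      IsPullback pY gj g₀ (D.map (ψ ≫ φ)) → IsPullback pX fj f₀ pY → IsOpenMap ⇑fj) :
    IsOpenMap ⇑f := by
  obtain ⟨i, φ, h⟩ := h
  have hXY : IsPullback qX (f ≫ g) (f₀ ≫ g₀) (c.π.app i₀) := hX.paste_vert hY
  let e : X ≅ (bcCone D c (f₀ ≫ g₀)).pt :=
    IsPullback.isoIsPullback _ _ hXY.flip (bcCone_isPullback₀ D c (f₀ ≫ g₀))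
  have he1 : e.hom ≫ bcPtSnd D c (f₀ ≫ g₀) = qX := IsPullback.isoIsPullback_hom_snd _ _ _ _
  have he2 : e.hom ≫ bcPtFst D c (f₀ ≫ g₀) = f ≫ g := IsPullback.isoIsPullback_hom_fst _ _ _ _
  intro W hW
  rw [isOpen_iff_forall_mem_open]
  rintro _ ⟨x, hx, rfl⟩
  have hW' : IsOpen (⇑e.inv ⁻¹' W) := hW.preimage e.inv.continuous
  have hx' : e.hom x ∈ ⇑e.inv ⁻¹' W := by
    show e.inv (e.hom x) ∈ W
    rw [← Scheme.Hom.comp_apply, e.hom_inv_id]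
    exact hx
  obtain ⟨k, χ, V, -, hxV, hVW⟩ := exists_mem_preimage_le (bc D (f₀ ≫ g₀))
    (bcCone D c (f₀ ≫ g₀)) (bcIsLimit D c (f₀ ≫ g₀) hc) (Over.mk φ) hW' hx'
  have hYk := bc_isPullback₀ D g₀ k
  have hXk := bc_isPullback₀ D (f₀ ≫ g₀) k
  let fk : (bc D (f₀ ≫ g₀)).obj k ⟶ (bc D g₀).obj k :=
    hYk.lift (bcFst D (f₀ ≫ g₀) k) (bcSnd D (f₀ ≫ g₀) k ≫ f₀) (by
      rw [hXk.w, Category.assoc])
  have hfk1 : fk ≫ bcFst D g₀ k = bcFst D (f₀ ≫ g₀) k := hYk.lift_fst _ _ _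
  have hfk2 : fk ≫ bcSnd D g₀ k = bcSnd D (f₀ ≫ g₀) k ≫ f₀ := hYk.lift_snd _ _ _
  have hsq : IsPullback (bcSnd D (f₀ ≫ g₀) k) fk f₀ (bcSnd D g₀ k) := by
    refine IsPullback.of_bot ?_ hfk2.symm hYk.flip
    rw [hfk1]
    exact hXk.flip
  have hopen : IsOpenMap ⇑fk := by
    have hw : χ.left ≫ φ = k.hom := Over.w χ
    refine h k.left χ.left _ _ fk (bcFst D g₀ k) (bcSnd D g₀ k) (bcSnd D (f₀ ≫ g₀) k) ?_ hsq
    rw [hw]
    exact hYk.flip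
  let a : X ⟶ (bc D (f₀ ≫ g₀)).obj k := e.hom ≫ (bcCone D c (f₀ ≫ g₀)).π.app k
  let b : Y ⟶ (bc D g₀).obj k := hYk.lift (g ≫ c.π.app k.left) qY (by
    rw [Category.assoc, c.w, hY.w])
  have hb1 : b ≫ bcFst D g₀ k = g ≫ c.π.app k.left := hYk.lift_fst _ _ _
  have hb2 : b ≫ bcSnd D g₀ k = qY := hYk.lift_snd _ _ _
  have ha : a ≫ bcSnd D (f₀ ≫ g₀) k = qX := by
    simp only [a, Category.assoc, bcCone_π_snd, he1]
  have hab : a ≫ fk = f ≫ b := by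
    refine hYk.hom_ext ?_ ?_
    · have h1 : a ≫ bcFst D (f₀ ≫ g₀) k = f ≫ g ≫ c.π.app k.left := by
        simp only [a, Category.assoc, bcCone_π_fst]
        rw [← Category.assoc, he2, Category.assoc]
      calc (a ≫ fk) ≫ bcFst D g₀ k = a ≫ (fk ≫ bcFst D g₀ k) := Category.assoc _ _ _
        _ = f ≫ g ≫ c.π.app k.left := by rw [hfk1, h1]
        _ = f ≫ (b ≫ bcFst D g₀ k) := by rw [hb1]
        _ = (f ≫ b) ≫ bcFst D g₀ k := (Category.assoc _ _ _).symm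
    · calc (a ≫ fk) ≫ bcSnd D g₀ k = a ≫ (fk ≫ bcSnd D g₀ k) := Category.assoc _ _ _
        _ = a ≫ (bcSnd D (f₀ ≫ g₀) k ≫ f₀) := by rw [hfk2]
        _ = (a ≫ bcSnd D (f₀ ≫ g₀) k) ≫ f₀ := (Category.assoc _ _ _).symm
        _ = f ≫ qY := by rw [ha, hX.w]
        _ = f ≫ (b ≫ bcSnd D g₀ k) := by rw [hb2]
        _ = (f ≫ b) ≫ bcSnd D g₀ k := (Category.assoc _ _ _).symm
  have hpb : IsPullback a f fk b := by
    refine IsPullback.of_right ?_ hab hsq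
    rw [ha, hb2]
    exact hX
  refine ⟨⇑b ⁻¹' (⇑fk '' V), ?_, (hopen _ V.2).preimage b.continuous, ?_⟩
  · rw [← image_preimage_of_isPullback hpb]
    refine Set.image_mono ?_
    intro y hy
    have h1 : e.hom y ∈ ⇑e.inv ⁻¹' W := hVW (by
      show (bcCone D c (f₀ ≫ g₀)).π.app k (e.hom y) ∈ V
      rw [← Scheme.Hom.comp_apply]; exact hy)
    have h2 : e.inv (e.hom y) ∈ W := h1
    rw [← Scheme.Hom.comp_apply, e.hom_inv_id] at h2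
    exact h2
  · rw [← image_preimage_of_isPullback hpb]
    refine ⟨x, ?_, rfl⟩
    show (e.hom ≫ (bcCone D c (f₀ ≫ g₀)).π.app k) x ∈ V
    rw [Scheme.Hom.comp_apply]
    exact hxV

end K115.Open2
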