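import Groth.Agent.Lim8.K115.Flat
import Groth.Agent.Ega43.LimSurj
import Mathlib.AlgebraicGeometry.Noetherian
import Mathlib.AlgebraicGeometry.FunctionField

/-!
# Cofiltered limits of open immersions: reducedness and integrality
-/

set_option autoImplicit false
universe u
open CategoryTheory AlgebraicGeometry CategoryTheory.Limits Topology

namespace K115.OpenImm

open K115.Basic Groth.Agent.Ega43.LimSurj

lemma isReduced_of_isLocalization {A B : Type*} [CommRing A] [CommRing B] [Algebra A B]
    (M : Submonoid A) [IsLocalization M B] (h : ∀ a : A, IsNilpotent a → algebraMap A B a = 0) :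
    _root_.IsReduced B := by
  refine ⟨fun z hz => ?_⟩
  obtain ⟨n, hn⟩ := hz
  obtain ⟨a, s, rfl⟩ := IsLocalization.exists_mk'_eq M z
  have h1 : algebraMap A B (a ^ n) = 0 := by
    rw [← IsLocalization.mk'_pow, IsLocalization.mk'_eq_zero_iff] at hn
    obtain ⟨t, ht⟩ := hn
    rw [← (IsLocalization.map_units B t).mul_right_eq_zero, ← map_mul, ht, map_zero]
  rw [← map_zero (algebraMap A B), IsLocalization.eq_iff_exists M] at h1
  obtain ⟨t, ht⟩ := h1
  have h2 : IsNilpotent ((t : A) * a) := by
    refine ⟨n + 1, ?_⟩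
    rw [mul_pow, pow_succ, pow_succ a]
    calc (t : A) ^ n * t * (a ^ n * a) = t ^ n * (t * a ^ n) * a := by ring
      _ = 0 := by rw [ht]; ring
  have h3 := h _ h2
  rw [map_mul, (IsLocalization.map_units B t).mul_right_eq_zero] at h3
  rw [IsLocalization.mk'_eq_zero_iff]
  rw [← map_zero (algebraMap A B), IsLocalization.eq_iff_exists M] at h3
  obtain ⟨t', ht'⟩ := h3
  exact ⟨t', by simpa using ht'⟩

/-- An open subscheme on which the (finitely many) generators of the nilradical vanish is reduced. -/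
lemma isReduced_stalk_of_app_eq_zero {X Y : Scheme.{u}} (f : X ⟶ Y) [IsOpenImmersion f] {U : Y.Opens}
    (hU : IsAffineOpen U) (h : ∀ a ∈ nilradical Γ(Y, U), f.app U a = 0) (x : X) (hx : f x ∈ U) :
    _root_.IsReduced (X.presheaf.stalk x) := by
  have h1 : _root_.IsReduced (Y.presheaf.stalk (f x)) := by
    have := hU.isLocalization_stalk ⟨f x, hx⟩
    let := (Y.presheaf.germ U (f x) hx).hom.toAlgebra
    refine isReduced_of_isLocalization (A := Γ(Y, U)) (B := Y.presheaf.stalk (f x))
      (hU.primeIdealOf ⟨f x, hx⟩).asIdeal.primeCompl ?_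
    intro a ha
    have h2 := h a ha
    have h3 : (f.stalkMap x).hom (Y.presheaf.germ U (f x) hx a) = 0 := by
      have h4 := Scheme.Hom.germ_stalkMap_apply f U x hx a
      rw [h2, map_zero] at h4
      exact h4
    have h5 : Function.Injective (f.stalkMap x).hom :=
      (asIso (f.stalkMap x)).commRingCatIsoToRingEquiv.injective
    exact h5 (h3.trans (map_zero _).symm)
  exact isReduced_of_injective (inv (f.stalkMap x)).hom
    (asIso (f.stalkMap x)).commRingCatIsoToRingEquiv.symm.injective

lemma app_eq_zero_of_comp {X Y Z : Scheme.{u}} {G : X ⟶ Y} {F : Y ⟶ Z} {H : X ⟶ Z} (h : H = G ≫ F)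
    {U : Z.Opens} {a : Γ(Z, U)} (ha : F.app U a = 0) : H.app U a = 0 := by
  subst h
  rw [Scheme.Hom.comp_app]
  exact (congrArg (G.app _).hom ha).trans (map_zero _)

variable {I : Type u} [SmallCategory I] [IsCofiltered I]
  (D : I ⥤ Scheme.{u}) (c : Cone D) (hc : IsLimit c) [∀ (i j : I) (f : i ⟶ j), IsAffineHom (D.map f)]

include hc

theorem exists_isReduced (i₀ : I)
    [CompactSpace (D.obj i₀)] (hoi : ∀ (i j : I) (φ : i ⟶ j), IsOpenImmersion (D.map φ))
    (hN : ∀ U : (D.obj i₀).affineOpens, (nilradical Γ(D.obj i₀, U)).FG) (hred : IsReduced c.pt) :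
    ∃ (i : I) (_ : i ⟶ i₀), ∀ (j : I) (_ : j ⟶ i), IsReduced (D.obj j) := by
  obtain ⟨s, hs, hs'⟩ := (isCompact_and_isOpen_iff_finite_and_eq_biUnion_affineOpens
    (X := D.obj i₀) (U := ⊤)).mp ⟨isCompact_univ, isOpen_univ⟩
  have : Finite s := hs
  choose g hg using fun U : (D.obj i₀).affineOpens => hN U
  obtain ⟨i, φ, hi⟩ := exists_common (i₀ := i₀)
    (J := Σ U : s, {a : Γ(D.obj i₀, U.1.1) // a ∈ g U.1})
    (fun p i φ => (D.map φ).app p.1.1.1 p.2.1 = 0)
    (fun p i i' φ ψ h => app_eq_zero_of_comp (D.map_comp ψ φ) h)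
    (by
      intro p
      refine exists_app_map_eq_zero_of_isLimit D c hc p.1.1.2.isCompact _ ?_
      have h1 : IsNilpotent (p.2.1) := by
        rw [← mem_nilradical, ← hg]
        exact Ideal.subset_span p.2.2
      have h2 : IsNilpotent ((c.π.app i₀).app p.1.1.1 p.2.1) := h1.map _
      have h3 : _root_.IsReduced Γ(c.pt, c.π.app i₀ ⁻¹ᵁ p.1.1.1) := hred.component_reduced _
      exact @IsNilpotent.eq_zero _ _ _ _ h3 h2)
  have : ∀ j (ψ : j ⟶ i), IsReduced (D.obj j) := by
    intro j ψ
    have : ∀ x : D.obj j, _root_.IsReduced ((D.obj j).presheaf.stalk x) := by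
      intro x
      have hx : D.map (ψ ≫ φ) x ∈ (⋃ i ∈ s, (i : Set (D.obj i₀))) := by rw [← hs']; trivial
      obtain ⟨U, hU, hxU⟩ := Set.mem_iUnion₂.mp hx
      have := hoi _ _ (ψ ≫ φ)
      refine isReduced_stalk_of_app_eq_zero (D.map (ψ ≫ φ)) U.2 ?_ x hxU
      intro a ha
      rw [← hg U] at ha
      have hle : Ideal.span (g U : Set Γ(D.obj i₀, U)) ≤ RingHom.ker ((D.map (ψ ≫ φ)).app U.1).hom := by
        rw [Ideal.span_le]
        intro b hb
        exact app_eq_zero_of_comp (D.map_comp ψ φ) (hi ⟨⟨U, hU⟩, ⟨b, hb⟩⟩)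
      exact hle ha
    exact isReduced_of_isReduced_stalk _
  exact ⟨i, φ, this⟩

theorem isIntegral_of_forall (i : I) [CompactSpace (D.obj i)]
    (hoi : ∀ (i j : I) (φ : i ⟶ j), IsOpenImmersion (D.map φ))
    (h : ∀ (j : I) (_ : j ⟶ i), IsIntegral (D.obj j)) : IsIntegral c.pt := by
  have hred : IsReduced c.pt := K115.Flat.isReduced_pt D c hc fun j =>
    ⟨IsCofiltered.min i j, IsCofiltered.minToRight _ _, by
      have := h _ (IsCofiltered.minToLeft i j)
      infer_instance⟩
  have hi : IsIntegral (D.obj i) := h i (𝟙 i)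
  have hne : Nonempty c.pt := nonempty_pt D c hc i fun j φ => by
    have := h j φ
    infer_instance
  have hgen : ∀ (j : I) (φ : j ⟶ i) (_ : IsIntegral (D.obj j)),
      D.map φ (genericPoint (D.obj j)) = genericPoint (D.obj i) := by
    intro j φ hj
    have := hoi _ _ φ
    exact genericPoint_eq_of_isOpenImmersion (D.map φ)
  obtain ⟨η, hη⟩ := (mem_range_π_iff D c hc i (genericPoint (D.obj i))).mpr fun j φ => by
    have hj := h j φ
    exact ⟨genericPoint (D.obj j), hgen j φ hj⟩
  have hη' : ∀ (j : I) (φ : j ⟶ i) (_ : IsIntegral (D.obj j)),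
      c.π.app j η = genericPoint (D.obj j) := by
    intro j φ hj
    have := hoi _ _ φ
    apply (D.map φ).isOpenEmbedding.injective
    rw [hgen j φ hj, ← hη]
    exact w_apply D c φ η
  have hirr : IrreducibleSpace c.pt := by
    have h1 : closure {η} = (Set.univ : Set c.pt) := by
      rw [Set.eq_univ_iff_forall]
      intro s
      rw [← specializes_iff_mem_closure]
      refine specializes_of_forall D c hc i fun j φ => ?_
      have := h j φ
      rw [hη' j φ this]
      exact genericPoint_specializes _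
    have h2 : IsIrreducible (Set.univ : Set c.pt) := by
      rw [← h1]
      exact isIrreducible_singleton.closure
    exact { toNonempty := hne, toPreirreducibleSpace := ⟨h2.2⟩ }
  exact isIntegral_of_irreducibleSpace_of_isReduced c.pt

theorem exists_isIntegral (i₀ : I) [IsNoetherian (D.obj i₀)]
    (hoi : ∀ (i j : I) (φ : i ⟶ j), IsOpenImmersion (D.map φ)) (hint : IsIntegral c.pt) :
    ∃ (i : I) (_ : i ⟶ i₀), ∀ (j : I) (_ : j ⟶ i), IsIntegral (D.obj j) := by
  have hN : ∀ U : (D.obj i₀).affineOpens, (nilradical Γ(D.obj i₀, U)).FG := by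
    intro U
    have : IsNoetherianRing Γ(D.obj i₀, U) := IsLocallyNoetherian.component_noetherian U
    exact (isNoetherianRing_iff_ideal_fg _).mp this _
  obtain ⟨i₁, φ₁, h₁⟩ := exists_isReduced D c hc i₀ hoi hN inferInstance
  let η := genericPoint c.pt
  have hfin : Finite (irreducibleComponents (D.obj i₀)) :=
    TopologicalSpace.NoetherianSpace.finite_irreducibleComponents
  -- late stages do not contain the generic points of the components other than the image of `η`
  obtain ⟨i₂, φ₂, h₂⟩ := exists_common (i₀ := i₀) (J := irreducibleComponents (D.obj i₀))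
    (fun Z i φ => ∀ z, IsGenericPoint z Z.1 → z ∈ Set.range (D.map φ) → z = c.π.app i₀ η)
    (by
      rintro Z i i' φ ψ h z hz ⟨x, hx⟩
      exact h z hz ⟨D.map ψ x, by rw [← map_comp_apply]; exact hx⟩)
    (by
      intro Z
      obtain ⟨z, hz⟩ := QuasiSober.sober (isIrreducible_iff_closure.mpr Z.2.1)
        (isClosed_closure)
      rw [(isClosed_of_mem_irreducibleComponents Z.1 Z.2).closure_eq] at hz
      by_cases hzη : z = c.π.app i₀ η
      · exact ⟨i₀, 𝟙 i₀, fun z' hz' _ => (hz'.eq hz).trans hzη⟩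
      · have hnot : z ∉ Set.range (c.π.app i₀) := by
          rintro ⟨s, hs⟩
          have h1 : c.π.app i₀ η ⤳ z := by
            rw [← hs]
            have h0 : η ⤳ (s : c.pt) := genericPoint_specializes (α := c.pt) s
            exact h0.map (c.π.app i₀).continuous
          have h2 : Z.1 ⊆ closure {c.π.app i₀ η} := by
            rw [← hz.def]
            exact h1.closure_subset
          have h3 : closure {c.π.app i₀ η} ⊆ Z.1 := Z.2.2 isIrreducible_singleton.closure h2
          have h4 : IsGenericPoint (c.π.app i₀ η) Z.1 := h3.antisymm h2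
          exact hzη (hz.eq h4)
        rw [mem_range_π_iff D c hc] at hnot
        push Not at hnot
        obtain ⟨j, φ, hj⟩ := hnot
        exact ⟨j, φ, fun z' hz' hmem => (hj ((hz'.eq hz) ▸ hmem)).elim⟩)
  obtain ⟨i, a, b, hab⟩ := IsCofiltered.cospan φ₁ φ₂
  refine ⟨i, a ≫ φ₁, fun j ψ => ?_⟩
  have hred : IsReduced (D.obj j) := h₁ j (ψ ≫ a)
  let φ := ψ ≫ b ≫ φ₂
  have hφ := hoi _ _ φ
  have hz : ∀ (Z : irreducibleComponents (D.obj i₀)) (z), IsGenericPoint z Z.1 →
      z ∈ Set.range (D.map φ) → z = c.π.app i₀ η := by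
    rintro Z z hz ⟨x, hx⟩
    refine h₂ Z z hz ⟨D.map (ψ ≫ b) x, ?_⟩
    rw [← map_comp_apply, ← hx]
    simp only [φ, Category.assoc]
  have hspec : ∀ x : D.obj j, c.π.app j η ⤳ x := by
    intro x
    rw [← (D.map φ).isOpenEmbedding.isInducing.specializes_iff, w_apply]
    let Z : irreducibleComponents (D.obj i₀) :=
      ⟨irreducibleComponent (D.map φ x), irreducibleComponent_mem_irreducibleComponents _⟩
    obtain ⟨z, hz'⟩ := QuasiSober.sober (isIrreducible_iff_closure.mpr Z.2.1) isClosed_closure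
    rw [(isClosed_of_mem_irreducibleComponents Z.1 Z.2).closure_eq] at hz'
    have h1 : z ⤳ D.map φ x := by
      rw [specializes_iff_mem_closure, hz'.def]
      exact mem_irreducibleComponent
    have h2 : z ∈ Set.range (D.map φ) := h1.mem_open (D.map φ).isOpenEmbedding.isOpen_range ⟨x, rfl⟩
    rw [← hz Z z hz' h2]
    exact h1
  have hirr : IrreducibleSpace (D.obj j) := by
    have h1 : closure {c.π.app j η} = (Set.univ : Set (D.obj j)) := by
      rw [Set.eq_univ_iff_forall]
      intro s
      rw [← specializes_iff_mem_closure]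
      exact hspec s
    have h2 : IsIrreducible (Set.univ : Set (D.obj j)) := by
      rw [← h1]
      exact isIrreducible_singleton.closure
    exact { toNonempty := ⟨c.π.app j η⟩, toPreirreducibleSpace := ⟨h2.2⟩ }
  exact isIntegral_of_irreducibleSpace_of_isReduced (D.obj j)

end K115.OpenImm
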