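import Groth.Agent.Lim8.K115.Open2
import Groth.Agent.Lim8.K115.RelFG
import Mathlib.AlgebraicGeometry.AffineSpace
import Mathlib.AlgebraicGeometry.Morphisms.Preimmersion

/-!
# Universal openness can be checked after base change to affine spaces
-/

set_option autoImplicit false
universe u
open CategoryTheory AlgebraicGeometry CategoryTheory.Limits Topology

namespace K115.UnivOpen

open K115.Open2 K115.RelFG

variable {X Y : Scheme.{u}} (f : X ⟶ Y)

/-- The base change of `f` along `g` is open. -/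
def P {T : Scheme.{u}} (g : T ⟶ Y) : Prop := IsOpenMap ⇑(pullback.snd f g)

lemma P_iff_of_isPullback {T XT : Scheme.{u}} {g : T ⟶ Y} {q : XT ⟶ X} {fT : XT ⟶ T}
    (h : IsPullback q fT f g) : P f g ↔ IsOpenMap ⇑fT := by
  have e : h.isoPullback.hom ≫ pullback.snd f g = fT := h.isoPullback_hom_snd
  have e' : h.isoPullback.inv ≫ fT = pullback.snd f g := h.isoPullback_inv_snd
  constructor
  · intro hP
    have h1 : IsOpenMap (⇑(pullback.snd f g) ∘ ⇑h.isoPullback.hom) :=
      IsOpenMap.comp hP h.isoPullback.hom.isOpenMap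
    rw [← e]
    exact h1
  · intro hP
    have h1 : IsOpenMap (⇑fT ∘ ⇑h.isoPullback.inv) :=
      IsOpenMap.comp hP h.isoPullback.inv.isOpenMap
    unfold P
    rw [← e']
    exact h1

/-- The map `X ×_Y T' ⟶ X ×_Y T`. -/
noncomputable def bcMap {T T' : Scheme.{u}} (g : T ⟶ Y) (j : T' ⟶ T) :
    pullback f (j ≫ g) ⟶ pullback f g :=
  pullback.lift (pullback.fst f (j ≫ g)) (pullback.snd f (j ≫ g) ≫ j) (by
    rw [pullback.condition, Category.assoc])

lemma isPullback_bcMap {T T' : Scheme.{u}} (g : T ⟶ Y) (j : T' ⟶ T) :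
    IsPullback (bcMap f g j) (pullback.snd f (j ≫ g)) (pullback.snd f g) j := by
  refine IsPullback.of_right ?_ (pullback.lift_snd _ _ _) (IsPullback.of_hasPullback f g)
  have : bcMap f g j ≫ pullback.fst f g = pullback.fst f (j ≫ g) := pullback.lift_fst _ _ _
  rw [this]
  exact IsPullback.of_hasPullback _ _

lemma P_comp {T T' : Scheme.{u}} (g : T ⟶ Y) (j : T' ⟶ T) [IsPreimmersion j] (h : P f g) :
    P f (j ≫ g) := by
  have hsq := isPullback_bcMap f g j
  have : IsPreimmersion (bcMap f g j) :=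
    MorphismProperty.of_isPullback (P := @IsPreimmersion) hsq.flip inferInstance
  intro W hW
  obtain ⟨W₀, hW₀, rfl⟩ := (bcMap f g j).isEmbedding.isInducing.isOpen_iff.mp hW
  rw [image_preimage_of_isPullback hsq]
  exact (h _ hW₀).preimage j.continuous

/-- Closed subschemes of affine spaces over an affine scheme mapping to `Y` by an open immersion. -/
lemma P_of_finiteType (h : ∀ n : ℕ, 0 < n →
      IsOpenMap ⇑(Limits.pullback.snd f (AffineSpace (ULift.{u} (Fin n)) Y ↘ Y)))
    {R : CommRingCat.{u}} (v : Spec R ⟶ Y) [IsOpenImmersion v] (S : Type u) [CommRing S] [Algebra R S]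
    [Algebra.FiniteType R S] :
    P f (Spec.map (CommRingCat.ofHom (algebraMap R S)) ≫ v) := by
  obtain ⟨s, hs⟩ := Algebra.FiniteType.out (R := R) (A := S)
  obtain ⟨n, hn, x, hx⟩ : ∃ (n : ℕ) (_ : 0 < n) (x : ULift.{u} (Fin n) → S),
      Algebra.adjoin R (Set.range x) = ⊤ := by
    let n := Fintype.card (Option s)
    let e : Option s ≃ Fin n := Fintype.equivFin _
    refine ⟨n, Fintype.card_pos, fun i => (e.symm i.down).elim 0 Subtype.val, ?_⟩
    rw [eq_top_iff, ← hs]
    refine Algebra.adjoin_mono ?_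
    intro a ha
    exact ⟨⟨e (some ⟨a, ha⟩)⟩, by simp⟩
  let σ : Type u := ULift.{u} (Fin n)
  let π : MvPolynomial σ R →ₐ[R] S := MvPolynomial.aeval x
  have hπ : Function.Surjective π := by
    rw [← AlgHom.range_eq_top, ← hx, Algebra.adjoin_range_eq_range_aeval]
  let i : Spec (CommRingCat.of S) ⟶ 𝔸(σ; Spec R) :=
    Spec.map (CommRingCat.ofHom π.toRingHom) ≫ (AffineSpace.SpecIso σ R).inv
  have hi1 : IsClosedImmersion (Spec.map (CommRingCat.ofHom π.toRingHom)) :=
    IsClosedImmersion.spec_of_surjective _ hπ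
  have hi : IsPreimmersion i := inferInstance
  have hm : IsOpenImmersion (AffineSpace.map σ v) :=
    MorphismProperty.of_isPullback (P := @IsOpenImmersion) (AffineSpace.isPullback_map (n := σ) v).flip
      inferInstance
  have key : (i ≫ AffineSpace.map σ v) ≫ (𝔸(σ; Y) ↘ Y) =
      Spec.map (CommRingCat.ofHom (algebraMap R S)) ≫ v := by
    rw [Category.assoc, AffineSpace.map_over]
    simp only [i, Category.assoc]
    rw [AffineSpace.SpecIso_inv_over_assoc, ← Spec.map_comp_assoc]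
    congr 2
    ext r
    simp [π]
  rw [← key]
  exact P_comp f _ (i ≫ AffineSpace.map σ v) (h n hn)

/-- Affine schemes over an affine open subscheme of `Y`. -/
lemma P_of_algebra (h : ∀ n : ℕ, 0 < n →
      IsOpenMap ⇑(Limits.pullback.snd f (AffineSpace (ULift.{u} (Fin n)) Y ↘ Y)))
    {R : CommRingCat.{u}} (v : Spec R ⟶ Y) [IsOpenImmersion v] (B : Type u) [CommRing B] [Algebra R B] :
    P f (Spec.map (CommRingCat.ofHom (algebraMap R B)) ≫ v) := by
  let D := specDiagram R B
  let c := specCone R B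
  have hc : IsLimit c := isLimitSpecCone R B
  -- the structure maps
  let t : ∀ j : (FGSub R B)ᵒᵖ, D.obj j ⟶ Y := fun j =>
    Spec.map (CommRingCat.ofHom (algebraMap R j.unop.1)) ≫ v
  have ht : ∀ {j k : (FGSub R B)ᵒᵖ} (ψ : j ⟶ k), D.map ψ ≫ t k = t j := by
    intro j k ψ
    show Spec.map _ ≫ Spec.map _ ≫ v = Spec.map _ ≫ v
    rw [← Spec.map_comp_assoc]
    rfl
  have hP : ∀ j, P f (t j) := fun j => by
    have : Algebra.FiniteType R j.unop.1 := (Subalgebra.fg_iff_finiteType _).1 j.unop.2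
    exact P_of_finiteType f h v j.unop.1
  let i₀ : (FGSub R B)ᵒᵖ := Opposite.op ⟨⊥, Subalgebra.fg_bot⟩
  have htc : c.π.app i₀ ≫ t i₀ = Spec.map (CommRingCat.ofHom (algebraMap R B)) ≫ v := by
    show Spec.map _ ≫ Spec.map _ ≫ v = Spec.map _ ≫ v
    rw [← Spec.map_comp_assoc]
    rfl
  rw [← htc]
  refine isOpenMap_of_stages D c hc i₀ (pullback.snd f (t i₀)) (𝟙 _)
    (pullback.snd f (c.π.app i₀ ≫ t i₀)) (𝟙 _) (c.π.app i₀) (bcMap f (t i₀) (c.π.app i₀))
    (IsPullback.of_vert_isIso ⟨by simp⟩) (isPullback_bcMap f (t i₀) (c.π.app i₀)) ?_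
  refine ⟨i₀, 𝟙 i₀, fun j ψ Xj Yj fj gj pY pX h1 h2 => ?_⟩
  have hgj : IsIso gj := MorphismProperty.of_isPullback (P := MorphismProperty.isomorphisms _) h1
    (inferInstanceAs (IsIso (𝟙 (D.obj i₀))))
  have hw : pY ≫ t i₀ = gj ≫ t j := by
    have h3 : pY = gj ≫ D.map (ψ ≫ 𝟙 i₀) := by
      have := h1.w
      rw [Category.comp_id] at this
      exact this
    rw [h3, Category.assoc, ht]
  have h4 : IsPullback (pX ≫ pullback.fst f (t i₀)) fj f (gj ≫ t j) := by
    rw [← hw]
    exact h2.paste_horiz (IsPullback.of_hasPullback f (t i₀))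
  rw [← P_iff_of_isPullback f h4]
  exact P_comp f (t j) gj (hP j)

lemma P_of_local {T : Scheme.{u}} (g : T ⟶ Y)
    (h : ∀ x : T, ∃ (U : T.Opens), x ∈ U ∧ P f (U.ι ≫ g)) : P f g := by
  intro W hW
  choose U hxU hU using h
  have hcov : TopologicalSpace.IsOpenCover U := by
    rw [TopologicalSpace.IsOpenCover, eq_top_iff]
    intro x _
    rw [TopologicalSpace.Opens.mem_iSup]
    exact ⟨x, hxU x⟩
  rw [hcov.isOpen_iff_coe_preimage]
  intro x
  have hsq := isPullback_bcMap f g (U x).ι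
  have h1 := hU x _ (hW.preimage (bcMap f g (U x).ι).continuous)
  rw [image_preimage_of_isPullback hsq] at h1
  exact h1

theorem universallyOpen (h : ∀ n : ℕ, 0 < n →
      IsOpenMap ⇑(Limits.pullback.snd f (AffineSpace (ULift.{u} (Fin n)) Y ↘ Y))) :
    UniversallyOpen f := by
  have key : ∀ {T : Scheme.{u}} (g : T ⟶ Y), P f g := by
    intro T g
    refine P_of_local f g fun x => ?_
    obtain ⟨V, hV, hxV, -⟩ := exists_isAffineOpen_mem_and_subset (x := g x) (U := ⊤) trivial
    obtain ⟨U, hU, hxU, hUV⟩ := exists_isAffineOpen_mem_and_subset (x := x) (U := g ⁻¹ᵁ V) hxV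
    refine ⟨U, hxU, ?_⟩
    have h1 : Spec.map (g.appLE V U hUV) ≫ hV.fromSpec = hU.fromSpec ≫ g :=
      hV.SpecMap_appLE_fromSpec g hU hUV
    let φ := g.appLE V U hUV
    algebraize [φ.hom]
    have h2 : P f (Spec.map φ ≫ hV.fromSpec) := P_of_algebra f h hV.fromSpec Γ(T, U)
    rw [h1] at h2
    have h3 : U.ι = hU.isoSpec.hom ≫ hU.fromSpec := by
      rw [IsAffineOpen.isoSpec_hom]
      exact (hU.toSpecΓ_fromSpec).symm
    rw [h3, Category.assoc]
    exact P_comp f _ _ h2
  refine ⟨?_⟩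
  intro X' Y' a b f' H
  exact (P_iff_of_isPullback f H.flip).mp (key b)

end K115.UnivOpen
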